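import Cfsg.Agent.Lib.SEightThree.WrInvol.Classes
import Cfsg.Agent.Lib.Coprime.Action2

/-!
The centralizer of `t` in the wreathed configuration.
-/

set_option autoImplicit false
set_option linter.style.haveILetI false
set_option linter.unusedVariables false
set_option linter.unusedSectionVars false
set_option linter.unusedSimpArgs false
set_option maxRecDepth 100000

namespace CfsgLib.SEightThree.WrInvol

open Subgroup Equiv
open scoped commutatorElement

universe u

theorem fixed_decomp : ∀ x : P5, Perm.sign x = 1 → τ * x * τ = x →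
    ∃ m : Fin 3, ∃ k : Fin 2, x = δ ^ m.val * υ ^ k.val := by
  decide +kernel

theorem centZ_sq : ∀ k : KF, k * zF = zF * k → k * tF = tF * k →
    ∃ i j : Fin 3, k * k = zF ^ i.val * dF ^ j.val := by
  decide +kernel

theorem pow_fin_two (x : P5) (hx : x * x = 1) (a b : Fin 2) :
    x ^ a.val * x ^ b.val = x ^ (a + b).val := by
  rw [← pow_add, Fin.val_add]
  exact pow_eq_pow_mod _ (by rw [pow_two, hx])

theorem odd_eq_pow {G : Type u} [Group G] [Finite G] {x : G} (ho : Odd (orderOf x)) (n : ℕ) :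
    x ∈ zpowers (x ^ 2 ^ n) := by
  have hco : (2 ^ n).Coprime (orderOf x) := Nat.Coprime.pow_left n ho.coprime_two_left
  obtain ⟨k, hk⟩ := exists_pow_eq_self_of_coprime hco
  exact ⟨k, by simpa using hk⟩

variable {G : Type u} [Group G] {S : Setup G}

variable (S) in
/-- The elements of the Sylow subgroup of the centralizer of `t`. -/
def el (a b c d : Fin 2) : G := pa S (υ ^ a.val) * pb S (υ ^ b.val) * rep S c d

variable (h : Frame S)
include h

theorem sign_pow_υ (a : Fin 2) : Perm.sign (υ ^ a.val) = 1 := by simp [sign_basic.1]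

theorem rep_mul (c d c' d' : Fin 2) : rep S c d * rep S c' d' = rep S (c + c') (d + d') := by
  have hc : Commute (S.ψ tF) S.g := (g_t_comm S).symm
  show S.ψ tF ^ c.val * S.g ^ d.val * (S.ψ tF ^ c'.val * S.g ^ d'.val) = _
  rw [(hc.symm.pow_pow _ _).mul_mul_mul_comm, ← pow_add, ← pow_add]
  show _ = S.ψ tF ^ (c + c').val * S.g ^ (d + d').val
  rw [Fin.val_add, Fin.val_add, pow_eq_pow_mod (c.val + c'.val) (by rw [pow_two, t_sq]),
    pow_eq_pow_mod (d.val + d'.val) (by rw [pow_two, h.gg])]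

theorem rep_conj {x y : P5} (hx : Perm.sign x = 1) (hy : Perm.sign y = 1) (htx : τ * x * τ = x)
    (hty : τ * y * τ = y) (c d : Fin 2) :
    rep S c d * (pa S x * pb S y) * rep S c d =
      if d = 0 then pa S x * pb S y else pa S y * pb S x := by
  have h00 : rep S 0 0 = 1 := by simp [rep]
  have ht := t_form h x y 0 0
  rw [htx, hty, h00, mul_one] at ht
  have ht' := t_form h y x 0 0
  rw [htx, hty, h00, mul_one] at ht'
  have hg := g_form h hx hy 0 0
  rw [h00, mul_one, mul_one] at hg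
  fin_cases c <;> fin_cases d
  · simp [rep]
  · simpa [rep] using hg
  · simpa [rep] using ht
  · show S.ψ tF ^ 1 * S.g ^ 1 * (pa S x * pb S y) * (S.ψ tF ^ 1 * S.g ^ 1) = _
    rw [pow_one, pow_one, if_neg (by decide)]
    calc S.ψ tF * S.g * (pa S x * pb S y) * (S.ψ tF * S.g)
        = S.ψ tF * (S.g * (pa S x * pb S y) * S.g) * S.ψ tF := by
          nth_rewrite 2 [← g_t_comm]; simp only [mul_assoc]
      _ = _ := by rw [hg, ht']

theorem rep_move {x y : P5} (hx : Perm.sign x = 1) (hy : Perm.sign y = 1) (htx : τ * x * τ = x)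
    (hty : τ * y * τ = y) (c d : Fin 2) :
    rep S c d * (pa S x * pb S y) =
      (if d = 0 then pa S x * pb S y else pa S y * pb S x) * rep S c d := by
  rw [← rep_conj h hx hy htx hty c d, mul_assoc _ (rep S c d) (rep S c d), rep_sq h, mul_one]

theorem tau_pow (a : Fin 2) : τ * υ ^ a.val * τ = υ ^ a.val := by
  obtain ⟨hτ, -, h3, -⟩ := five_facts
  fin_cases a
  · simp [hτ]
  · simpa using h3

theorem el_mul (a b c d a' b' c' d' : Fin 2) :
    el S a b c d * el S a' b' c' d' =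
      if d = 0 then el S (a + a') (b + b') (c + c') (d + d')
      else el S (a + b') (b + a') (c + c') (d + d') := by
  have hs := sign_pow_υ h
  have hυ := five_facts.2.1
  have := rep_move h (hs a') (hs b') (tau_pow h a') (tau_pow h b') c d
  calc el S a b c d * el S a' b' c' d'
      = pa S (υ ^ a.val) * pb S (υ ^ b.val) * (rep S c d * (pa S (υ ^ a'.val) * pb S (υ ^ b'.val)))
          * rep S c' d' := by simp only [el, mul_assoc]
    _ = pa S (υ ^ a.val) * pb S (υ ^ b.val) *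
          (if d = 0 then pa S (υ ^ a'.val) * pb S (υ ^ b'.val)
            else pa S (υ ^ b'.val) * pb S (υ ^ a'.val)) * (rep S c d * rep S c' d') := by
        rw [this]; simp only [mul_assoc]
    _ = _ := by
        rw [rep_mul h]
        split
        · rw [mul_forms h (hs b) (hs a'), pow_fin_two υ hυ, pow_fin_two υ hυ]; rfl
        · rw [mul_forms h (hs b) (hs b'), pow_fin_two υ hυ, pow_fin_two υ hυ]; rfl

theorem el_zero : el S 0 0 0 0 = 1 := by simp [el, rep]

theorem el_inj [Finite G] {a b c d a' b' c' d' : Fin 2}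
    (e : el S a b c d = el S a' b' c' d') : a = a' ∧ b = b' ∧ c = c' ∧ d = d' := by
  have hs := sign_pow_υ h
  obtain ⟨e1, e2, e3, e4⟩ := uniq h (hs a) (hs b) (hs a') (hs b') e
  have hinj : ∀ a b : Fin 2, υ ^ a.val = υ ^ b.val → a = b := by decide +kernel
  exact ⟨hinj _ _ e1, hinj _ _ e2, e3, e4⟩

theorem el_inv (a b c d : Fin 2) :
    (el S a b c d)⁻¹ = if d = 0 then el S a b c d else el S b a c d := by
  refine inv_eq_of_mul_eq_one_right ?_
  have h2 : ∀ x : Fin 2, x + x = 0 := by decide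
  split
  · rename_i hd
    rw [el_mul h, if_pos hd, h2, h2, h2, h2, el_zero h]
  · rename_i hd
    rw [el_mul h, if_neg hd, h2, h2, h2, h2, el_zero h]

theorem el_commute (a b c d : Fin 2) : el S a b c d * S.ψ tF = S.ψ tF * el S a b c d := by
  have := t_form h (υ ^ a.val) (υ ^ b.val) c d
  rw [tau_pow h, tau_pow h] at this
  calc el S a b c d * S.ψ tF = S.ψ tF * el S a b c d * S.ψ tF * S.ψ tF := by
        rw [show S.ψ tF * el S a b c d * S.ψ tF = el S a b c d from this]
    _ = _ := by rw [mul_assoc, t_sq, mul_one]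

theorem el_le (a b c d : Fin 2) : el S a b c d ∈ normalizer (S.N : Set G) :=
  form_le h (sign_pow_υ h a) (sign_pow_υ h b) c d

/-- The Sylow subgroup of order sixteen. -/
theorem exists_T : ∃ T B : Subgroup G, (∀ x, x ∈ T ↔ ∃ a b c d, x = el S a b c d) ∧
    (∀ x, x ∈ B ↔ ∃ a b c, x = el S a b c 0) :=
  ⟨{ carrier := {x | ∃ a b c d, x = el S a b c d}
     mul_mem' := by
       rintro _ _ ⟨a, b, c, d, rfl⟩ ⟨a', b', c', d', rfl⟩
       rw [el_mul h]
       split
       · exact ⟨_, _, _, _, rfl⟩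
       · exact ⟨_, _, _, _, rfl⟩
     one_mem' := ⟨0, 0, 0, 0, (el_zero h).symm⟩
     inv_mem' := by
       rintro _ ⟨a, b, c, d, rfl⟩
       rw [el_inv h]
       split
       · exact ⟨_, _, _, _, rfl⟩
       · exact ⟨_, _, _, _, rfl⟩ },
   { carrier := {x | ∃ a b c, x = el S a b c 0}
     mul_mem' := by
       rintro _ _ ⟨a, b, c, rfl⟩ ⟨a', b', c', rfl⟩
       rw [el_mul h, if_pos rfl]
       exact ⟨_, _, _, rfl⟩
     one_mem' := ⟨0, 0, 0, (el_zero h).symm⟩
     inv_mem' := by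
       rintro _ ⟨a, b, c, rfl⟩
       rw [el_inv h, if_pos rfl]
       exact ⟨_, _, _, rfl⟩ },
    fun x => Iff.rfl, fun x => Iff.rfl⟩

theorem el_t : el S 0 0 1 0 = S.ψ tF := by simp [el, rep]

theorem el_g : el S 0 0 0 1 = S.g := by simp [el, rep]

theorem el_e2 : el S 0 1 0 0 = pb S υ := by simp [el, rep]

theorem el_e1 : el S 1 0 0 0 = pa S υ := by simp [el, rep]

theorem pow_ne (a : Fin 2) (ha : a ≠ 0) : υ ^ a.val = υ := by
  fin_cases a
  · exact absurd rfl ha
  · simp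

/-- No conjugation in `C(t)` moves the elementary part of the Sylow subgroup outside. -/
theorem B_not_swap [Finite G] {v : G} (hv : v * S.ψ tF = S.ψ tF * v) (a b c a' b' c' : Fin 2) :
    v * el S a b c 0 * v⁻¹ ≠ el S a' b' c' 1 := by
  intro e
  have hs := sign_pow_υ h
  have main : ∀ a b a' b' c' : Fin 2, v * el S a b 1 0 * v⁻¹ ≠ el S a' b' c' 1 := by
    intro a b a' b' c' e
    have hsq : el S a b 1 0 * el S a b 1 0 = 1 := by
      have h2 : ∀ x : Fin 2, x + x = 0 := by decide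
      rw [el_mul h, if_pos rfl, h2, h2, h2, h2, el_zero h]
    have hsq' : el S a' b' c' 1 * el S a' b' c' 1 = 1 := by
      rw [← e, show v * el S a b 1 0 * v⁻¹ * (v * el S a b 1 0 * v⁻¹) =
        v * (el S a b 1 0 * el S a b 1 0) * v⁻¹ by group, hsq, mul_one, mul_inv_cancel]
    have c1 : IsConj (rep S 1 0) (el S a b 1 0) := outer_conj h (hs a) (hs b) (by decide) hsq
    have c2 : IsConj (rep S c' 1) (el S a' b' c' 1) :=
      outer_conj h (hs a') (hs b') (fun hh => absurd hh.2 (by decide)) hsq'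
    have c3 : IsConj (rep S 1 0) (rep S c' 1) :=
      c1.trans ((isConj_iff.2 ⟨v, e⟩).trans c2.symm)
    exact t_not_swap h (i := c') rfl (by simpa [rep] using c3.symm)
  by_cases hc : c = 0
  swap
  · have hc1 : c = 1 := Fin.eq_one_of_ne_zero c hc
    subst hc1
    exact main a b a' b' c' e
  subst hc
  have hsq' : el S a' b' c' 1 * el S a' b' c' 1 = 1 := by
    have h2 : ∀ x : Fin 2, x + x = 0 := by decide
    rw [← e, show v * el S a b 0 0 * v⁻¹ * (v * el S a b 0 0 * v⁻¹) =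
      v * (el S a b 0 0 * el S a b 0 0) * v⁻¹ by group, el_mul h, if_pos rfl, h2, h2, h2,
      el_zero h, mul_one, mul_inv_cancel]
  have hout : el S a' b' c' 1 ∉ S.N :=
    form_not_mem h (hs a') (hs b') fun hh => absurd hh.2 (by decide)
  have hA : ∀ w : G, IsConj w (pa S α₀) → v * w * v⁻¹ ≠ el S a' b' c' 1 := fun w hw e' =>
    outer_not_a h (el_le h _ _ _ _) hout hsq' ((isConj_iff.2 ⟨v, e'⟩).symm.trans hw)
  obtain ⟨sυ, -⟩ := sign_basic
  obtain ⟨-, hυ2, -, -, -, -, hυ1, -⟩ := five_facts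
  by_cases ha : a = 0
  · subst ha
    by_cases hb : b = 0
    · subst hb
      rw [el_zero h, mul_one, mul_inv_cancel] at e
      exact hout (e ▸ one_mem _)
    · refine hA _ ?_ e
      have : el S 0 b 0 0 = pb S υ := by simp [el, rep, pow_ne h b hb]
      rw [this]
      exact (pb_conj_a h sυ hυ2 hυ1).1
  · by_cases hb : b = 0
    · subst hb
      refine hA _ ?_ e
      have : el S a 0 0 0 = pa S υ := by simp [el, rep, pow_ne h a ha]
      rw [this]
      exact (pb_conj_a h sυ hυ2 hυ1).2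
    · refine main a b a' b' (c' + 1) ?_
      have e1 : el S a b 1 0 = el S a b 0 0 * S.ψ tF := by
        rw [← el_t h, el_mul h, if_pos rfl]; simp
      have e2 : el S a' b' (c' + 1) 1 = el S a' b' c' 1 * S.ψ tF := by
        rw [← el_t h, el_mul h, if_neg (by decide)]; simp
      rw [e1, e2, ← e]
      calc v * (el S a b 0 0 * S.ψ tF) * v⁻¹
          = v * el S a b 0 0 * v⁻¹ * (v * S.ψ tF * v⁻¹) := by group
        _ = _ := by rw [hv, mul_inv_cancel_right]

/-- An element of `C(t)` moving the involution of the second factor inside the Sylow subgroup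
normalises the product. -/
theorem mem_of_e2 [Finite G] {v : G} (hv : v * S.ψ tF = S.ψ tF * v) {a b c d : Fin 2}
    (e : v * pb S υ * v⁻¹ = el S a b c d) : v ∈ normalizer (S.N : Set G) := by
  have hs := sign_pow_υ h
  obtain ⟨sυ, -⟩ := sign_basic
  obtain ⟨-, hυ2, -, -, -, -, hυ1, -⟩ := five_facts
  by_cases hd : d = 0
  swap
  · have hd1 : d = 1 := Fin.eq_one_of_ne_zero d hd
    subst hd1
    exact absurd (by rw [el_e2 h]; exact e) (B_not_swap h hv 0 1 0 a b c)
  subst hd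
  have hca : IsConj (el S a b c 0) (pa S α₀) :=
    (isConj_iff.2 ⟨v, e⟩).symm.trans (pb_conj_a h sυ hυ2 hυ1).1
  by_cases hc : c = 0
  swap
  · have hsq : el S a b c 0 * el S a b c 0 = 1 := by
      have h2 : ∀ x : Fin 2, x + x = 0 := by decide
      rw [el_mul h, if_pos rfl, h2, h2, h2, h2, el_zero h]
    exact absurd hca (outer_not_a h (el_le h _ _ _ _)
      (form_not_mem h (hs a) (hs b) fun hh => hc hh.1) hsq)
  subst hc
  have fix : ∀ w : G, w * pb S υ * w⁻¹ = pb S υ → w ∈ normalizer (S.N : Set G) := fun w hw =>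
    cent_pb_le h sυ hυ2 hυ1 (mem_centralizer_singleton_iff.2 (mul_inv_eq_iff_eq_mul.1 hw))
  by_cases ha : a = 0
  · subst ha
    by_cases hb : b = 0
    · subst hb
      rw [el_zero h] at e
      exact absurd (pb_inj S ((conj_eq_one_iff.1 e).trans (map_one _).symm)) hυ1
    · refine fix v ?_
      rw [e]
      simp [el, rep, pow_ne h b hb]
  · by_cases hb : b = 0
    · subst hb
      have e' : v * pb S υ * v⁻¹ = pa S υ := by rw [e]; simp [el, rep, pow_ne h a ha]
      have hg := fix (S.g * v) (by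
        calc S.g * v * pb S υ * (S.g * v)⁻¹ = S.g * (v * pb S υ * v⁻¹) * S.g⁻¹ := by group
          _ = pb S υ := by rw [e', gi h, g_pa h])
      have := mul_mem (inv_mem (show S.g ∈ normalizer (S.N : Set G) by
        simpa [rep] using rep_mem h 0 1)) hg
      rwa [inv_mul_cancel_left] at this
    · exfalso
      have e1 : el S a b 0 0 = pa S υ * pb S υ := by simp [el, rep, pow_ne h a ha, pow_ne h b hb]
      obtain ⟨p, hp, hp'⟩ := invol_conj υ sυ hυ2 hυ1
      have := isConj_pair h sυ sυ hp hp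
      rw [hp'] at this
      rw [e1] at hca
      exact h.a_c (hca.symm.trans this)

theorem form_of_commute [Finite G] {x : G} (hx : x ∈ normalizer (S.N : Set G))
    (hxt : x * S.ψ tF = S.ψ tF * x) :
    ∃ a b : P5, ∃ i j : Fin 2, Perm.sign a = 1 ∧ Perm.sign b = 1 ∧ τ * a * τ = a ∧
      τ * b * τ = b ∧ x = pa S a * pb S b * rep S i j := by
  obtain ⟨a, b, i, j, ha, hb, rfl⟩ := mem_NN' h hx
  have ht := t_form h a b i j
  rw [← hxt, mul_assoc, t_sq, mul_one] at ht
  obtain ⟨ea, eb, -, -⟩ := uniq h ha hb (sign_tau_conj a ha) (sign_tau_conj b hb) ht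
  exact ⟨a, b, i, j, ha, hb, ea.symm, eb.symm, rfl⟩

theorem D_le_NN : S.D ≤ normalizer (S.N : Set G) := by
  obtain ⟨-, sδ, -, -⟩ := sign_basic
  refine (closure_le _).2 ?_
  rintro _ (rfl | rfl) <;> refine le_normalizer ?_
  · rw [z_eq]
    exact h.memN.2 ⟨1, one_mem _, _, pb_mem S sδ, (one_mul _).symm⟩
  · rw [d_eq]
    exact h.memN.2 ⟨_, pa_mem S sδ, 1, one_mem _, (mul_one _).symm⟩

theorem two_group_le_sixteen [Finite G] {P : Subgroup G} (hP : IsPGroup 2 P)
    (hle : P ≤ centralizer ({S.ψ tF} : Set G) ⊓ normalizer (S.N : Set G)) : Nat.card P ≤ 16 := by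
  haveI : Fact (Nat.Prime 2) := ⟨Nat.prime_two⟩
  set U := centralizer ({S.ψ tF} : Set G) ⊓ normalizer (S.N : Set G) with hU
  have hA : (Finset.univ.filter fun a : P5 => Perm.sign a = 1 ∧ τ * a * τ = a).card = 6 := by
    decide +kernel
  have hU144 : Nat.card U ≤ 144 := by
    let A := Finset.univ.filter fun a : P5 => Perm.sign a = 1 ∧ τ * a * τ = a
    have hf : ∀ x : U, ∃ p : A × A × Fin 2 × Fin 2,
        (x : G) = pa S (p.1 : P5) * pb S (p.2.1 : P5) * rep S p.2.2.1 p.2.2.2 := fun x => by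
      obtain ⟨a, b, i, j, ha, hb, hta, htb, e⟩ :=
        form_of_commute h x.2.2 (mem_centralizer_singleton_iff.1 x.2.1)
      exact ⟨(⟨a, by simp [A, ha, hta]⟩, ⟨b, by simp [A, hb, htb]⟩, i, j), e⟩
    choose f hf' using hf
    refine (Nat.card_le_card_of_injective f fun x y e => Subtype.ext ?_).trans_eq ?_
    · rw [hf' x, hf' y, e]
    · rw [Nat.card_prod, Nat.card_prod, Nat.card_eq_fintype_card (α := A), Fintype.card_coe,
        show A.card = 6 from hA]
      simp
  have h9 : 9 ∣ Nat.card U := by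
    rw [← S.card_D]
    exact card_dvd_of_le (le_inf nine_le_cent_t (D_le_NN h))
  have hd : Nat.card P ∣ Nat.card U := card_dvd_of_le hle
  obtain ⟨m, hm⟩ := IsPGroup.iff_card.1 hP
  have hco : (Nat.card P).Coprime 9 := by
    rw [hm]; exact Nat.Coprime.pow_left _ (by norm_num)
  have := Nat.le_of_dvd Nat.card_pos (hco.mul_dvd_of_dvd_of_dvd hd h9)
  omega

theorem card_T [Finite G] {T : Subgroup G} (hT : ∀ x, x ∈ T ↔ ∃ a b c d, x = el S a b c d) :
    Nat.card T = 16 := by
  let f : Fin 2 × Fin 2 × Fin 2 × Fin 2 → T := fun p =>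
    ⟨el S p.1 p.2.1 p.2.2.1 p.2.2.2, (hT _).2 ⟨_, _, _, _, rfl⟩⟩
  have hf : Function.Bijective f := by
    refine ⟨fun p q e => ?_, fun x => ?_⟩
    · obtain ⟨e1, e2, e3, e4⟩ := el_inj h (congrArg Subtype.val e)
      exact Prod.ext e1 (Prod.ext e2 (Prod.ext e3 e4))
    · obtain ⟨a, b, c, d, e⟩ := (hT _).1 x.2
      exact ⟨(a, b, c, d), Subtype.ext e.symm⟩
  rw [← Nat.card_eq_of_bijective f hf]
  simp

theorem card_B [Finite G] {B : Subgroup G} (hB : ∀ x, x ∈ B ↔ ∃ a b c, x = el S a b c 0) :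
    Nat.card B = 8 := by
  let f : Fin 2 × Fin 2 × Fin 2 → B := fun p =>
    ⟨el S p.1 p.2.1 p.2.2 0, (hB _).2 ⟨_, _, _, rfl⟩⟩
  have hf : Function.Bijective f := by
    refine ⟨fun p q e => ?_, fun x => ?_⟩
    · obtain ⟨e1, e2, e3, -⟩ := el_inj h (congrArg Subtype.val e)
      exact Prod.ext e1 (Prod.ext e2 e3)
    · obtain ⟨a, b, c, e⟩ := (hB _).1 x.2
      exact ⟨(a, b, c), Subtype.ext e.symm⟩
  rw [← Nat.card_eq_of_bijective f hf]
  simp

/-- The subgroup of order sixteen is a Sylow subgroup of the centralizer of `t`. -/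
theorem T_sylow [Finite G] {T : Subgroup G} (hT : ∀ x, x ∈ T ↔ ∃ a b c d, x = el S a b c d)
    {R : Subgroup G} (hR : IsPGroup 2 R) (hTR : T ≤ R)
    (hRH : R ≤ centralizer ({S.ψ tF} : Set G)) : R = T := by
  haveI : Fact (Nat.Prime 2) := ⟨Nat.prime_two⟩
  by_contra hne
  haveI : Group.IsNilpotent R := hR.isNilpotent
  have hlt : T.subgroupOf R < ⊤ := lt_top_iff_ne_top.2 fun e =>
    hne (le_antisymm (subgroupOf_eq_top.1 e) hTR)
  obtain ⟨n, hn, hnT⟩ := SetLike.exists_of_lt (normalizerCondition_of_isNilpotent (G := R) _ hlt)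
  have hnT' : (n : G) ∉ T := hnT
  have he : (n : G) * pb S υ * (n : G)⁻¹ ∈ T := by
    have hmem : pb S υ ∈ T := (hT _).2 ⟨0, 1, 0, 0, (el_e2 h).symm⟩
    exact ((mem_normalizer_iff.1 hn) ⟨pb S υ, hTR hmem⟩).1 hmem
  obtain ⟨a, b, c, d, e⟩ := (hT _).1 he
  have hnN := mem_of_e2 h (mem_centralizer_singleton_iff.1 (hRH n.2)) e
  set P := T ⊔ zpowers (n : G) with hP
  have hPR : P ≤ R := sup_le hTR (zpowers_le.2 n.2)
  have hTN : T ≤ normalizer (S.N : Set G) := fun x hx => by
    obtain ⟨a, b, c, d, rfl⟩ := (hT x).1 hx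
    exact el_le h a b c d
  have h16 := two_group_le_sixteen h (hR.to_le hPR)
    (le_inf (hPR.trans hRH) (sup_le hTN (zpowers_le.2 hnN)))
  have heq : T = P := eq_of_le_of_card_ge le_sup_left (by rw [card_T h hT]; exact h16)
  exact hnT' (heq ▸ mem_sup_right (mem_zpowers (n : G)))

theorem eF_normalizes {x : G} (hx : x ∈ S.D) : S.ψ eF * x * (S.ψ eF)⁻¹ ∈ S.D := by
  induction hx using closure_induction with
  | mem y hy =>
    rcases hy with rfl | rfl
    · have hd : S.ψ zF ∈ S.D := Subgroup.subset_closure (Or.inl rfl)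
      rw [S.map_conj facts_comm.2.2.2.2.2.2.1, map_inv]
      exact S.D.inv_mem hd
    · have hd : S.ψ dF ∈ S.D := Subgroup.subset_closure (Or.inr rfl)
      have e : eF * dF * eF⁻¹ = dF := by rw [facts_comm.2.2.2.2.2.1, mul_inv_cancel_right]
      rw [S.map_conj e]
      exact hd
  | one => rw [mul_one, mul_inv_cancel]; exact one_mem _
  | mul a b _ _ ha hb =>
    rw [show S.ψ eF * (a * b) * (S.ψ eF)⁻¹ =
      S.ψ eF * a * (S.ψ eF)⁻¹ * (S.ψ eF * b * (S.ψ eF)⁻¹) by group]
    exact mul_mem ha hb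
  | inv a _ ha =>
    rw [show S.ψ eF * a⁻¹ * (S.ψ eF)⁻¹ = (S.ψ eF * a * (S.ψ eF)⁻¹)⁻¹ by group]
    exact inv_mem ha

/-- Squares in the centralizer of `t` and a nontrivial element of `D` lie in `D`. -/
theorem sq_cent_D {x w : G} (hw : w ∈ S.D) (hw1 : w ≠ 1) (hxt : x * S.ψ tF = S.ψ tF * x)
    (hxw : x * w = w * x) : x * x ∈ S.D := by
  obtain ⟨i, j, rfl⟩ := S.mem_D_iff.1 hw
  obtain ⟨-, -, -, -, -, -, -, hz3, hd3, -⟩ := facts_comm
  have hzd : Commute zF dF := facts_comm.1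
  have Z : ∀ x : G, x * S.ψ zF = S.ψ zF * x → x * S.ψ tF = S.ψ tF * x → x * x ∈ S.D := by
    intro x h1 h2
    obtain ⟨k, rfl⟩ := S.cent_z_le (mem_centralizer_singleton_iff.2 h1)
    obtain ⟨i, j, e⟩ := centZ_sq k (S.comm_of_map h1) (S.comm_of_map h2)
    exact S.mem_D_iff.2 ⟨i, j, by rw [← map_mul, e]⟩
  have Dd : ∀ x : G, x * S.ψ dF = S.ψ dF * x → x * S.ψ tF = S.ψ tF * x → x * x ∈ S.D := by
    intro x h1 h2
    obtain ⟨k, rfl⟩ := S.cent_d_le (mem_centralizer_singleton_iff.2 h1)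
    have hinj : ∀ {a b : KF}, S.φ a * S.φ b = S.φ b * S.φ a → a * b = b * a := fun {a b} e =>
      S.φ_inj (by rw [map_mul, e, map_mul])
    obtain ⟨i, j, e⟩ := centZ_sq k (hinj (by rw [S.φ_zF]; exact h1))
      (hinj (by rw [S.φ_tF]; exact h2))
    refine S.mem_D_iff.2 ⟨j, i, ?_⟩
    rw [← map_mul, e, map_mul, map_pow, map_pow, S.φ_zF, S.φ_dF, map_mul, map_pow, map_pow]
    exact (((show Commute (S.ψ zF) (S.ψ dF) from S.map_comm facts_comm.1).pow_pow _ _).eq).symm
  have Y : ∀ x : G, x * (S.ψ zF * S.ψ dF) = S.ψ zF * S.ψ dF * x → x * x ∈ S.D := by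
    intro x h1
    have := S.sq_y x (mem_centralizer_singleton_iff.2 h1)
    rwa [pow_two] at this
  have Y' : ∀ x : G, x * (S.ψ zF * (S.ψ dF)⁻¹) = S.ψ zF * (S.ψ dF)⁻¹ * x → x * x ∈ S.D := by
    intro x h1
    have e : S.ψ eF * (S.ψ zF * (S.ψ dF)⁻¹) * (S.ψ eF)⁻¹ = (S.ψ zF * S.ψ dF)⁻¹ := by
      have hk : eF * (zF * dF⁻¹) * eF⁻¹ = (zF * dF)⁻¹ := by decide +kernel
      have := congrArg S.ψ hk
      rw [map_mul, map_mul, map_mul, map_inv, map_inv, map_inv, map_mul] at this
      exact this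
    have hee : (S.ψ eF)⁻¹ = S.ψ eF := by
      rw [← map_inv, show eF⁻¹ = eF by decide +kernel]
    have h2 : Commute (S.ψ eF * x * (S.ψ eF)⁻¹) (S.ψ zF * S.ψ dF)⁻¹ := by
      rw [← e]
      show _ = _
      calc S.ψ eF * x * (S.ψ eF)⁻¹ * (S.ψ eF * (S.ψ zF * (S.ψ dF)⁻¹) * (S.ψ eF)⁻¹)
          = S.ψ eF * (x * (S.ψ zF * (S.ψ dF)⁻¹)) * (S.ψ eF)⁻¹ := by group
        _ = S.ψ eF * (S.ψ zF * (S.ψ dF)⁻¹ * x) * (S.ψ eF)⁻¹ := by rw [h1]
        _ = _ := by group
    have h3 := eF_normalizes h (Y _ (Commute.inv_right_iff.1 h2).eq)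
    rwa [show S.ψ eF * (S.ψ eF * x * (S.ψ eF)⁻¹ * (S.ψ eF * x * (S.ψ eF)⁻¹)) * (S.ψ eF)⁻¹ =
      S.ψ eF * S.ψ eF * (x * x) * ((S.ψ eF)⁻¹ * (S.ψ eF)⁻¹) by group, hee, ← map_mul,
      show eF * eF = 1 by decide +kernel, map_one, one_mul, mul_one] at h3
  have hsw : ∀ {a : KF}, x * S.ψ a = S.ψ a * x → x * S.ψ a⁻¹ = S.ψ a⁻¹ * x := fun {a} e => by
    rw [map_inv]; exact (Commute.inv_right e).eq
  have hz2 : zF ^ 2 = zF⁻¹ := eq_inv_of_mul_eq_one_left (by rw [← pow_succ, hz3])
  have hd2 : dF ^ 2 = dF⁻¹ := eq_inv_of_mul_eq_one_left (by rw [← pow_succ, hd3])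
  fin_cases i <;> fin_cases j
  · exact absurd (by simp) hw1
  · exact Dd x (by simpa using hxw) hxt
  · refine Dd x ?_ hxt
    have e : x * S.ψ dF⁻¹ = S.ψ dF⁻¹ * x := by simpa [hd2] using hxw
    simpa using hsw e
  · exact Z x (by simpa using hxw) hxt
  · exact Y x (by simpa using hxw)
  · refine Y' x ?_
    simpa [hd2] using hxw
  · refine Z x ?_ hxt
    have e : x * S.ψ zF⁻¹ = S.ψ zF⁻¹ * x := by simpa [hz2] using hxw
    simpa using hsw e
  · refine Y' x ?_
    have e : x * S.ψ (zF⁻¹ * dF) = S.ψ (zF⁻¹ * dF) * x := by simpa [hz2] using hxw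
    have e2 := hsw e
    rw [mul_inv_rev, inv_inv, ← (hzd.inv_right).eq] at e2
    simpa using e2
  · refine Y x ?_
    have e : x * S.ψ (zF⁻¹ * dF⁻¹) = S.ψ (zF⁻¹ * dF⁻¹) * x := by simpa [hz2, hd2] using hxw
    have e2 := hsw e
    rw [mul_inv_rev, inv_inv, inv_inv, ← hzd.eq] at e2
    simpa using e2

/-- The diagonal elements of `D` are conjugate to the diagonal element. -/
theorem diag_conj_yel {i j : Fin 3} (hi : i ≠ 0) (hj : j ≠ 0) :
    IsConj (pa S δ * pb S δ) (S.ψ (zF ^ i.val * dF ^ j.val)) := by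
  obtain ⟨sυ, sδ, -, -⟩ := sign_basic
  obtain ⟨-, hυ2, -, -, hυδ, -⟩ := five_facts
  have hυi : υ⁻¹ = υ := inv_eq_of_mul_eq_one_right hυ2
  obtain ⟨e, he⟩ := diag_adjust i j hi hj
  have sj : Perm.sign (δ ^ j.val) = 1 := by simp [sδ]
  have hform : S.ψ (zF ^ i.val * dF ^ j.val) = pa S (δ ^ j.val) * pb S (δ ^ i.val) := by
    rw [map_mul, map_pow, map_pow, z_eq, d_eq, ← map_pow, ← map_pow,
      ← pa_pb h sj (by simp [sδ])]
  have hc := isConj_pair h (c := 1) (d := υ ^ e.val) sj (show Perm.sign (δ ^ i.val) = 1 by simp [sδ])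
    (by simp) (by simp [sυ])
  rw [← hform, one_mul, inv_one, mul_one] at hc
  rcases he with ⟨he1, he2⟩ | ⟨he1, he2⟩ <;> rw [he1, he2] at hc
  · exact hc.symm
  · refine (hc.trans ?_).symm
    have := isConj_pair h (show Perm.sign δ⁻¹ = 1 by simp [sδ]) (show Perm.sign δ⁻¹ = 1 by simp [sδ])
      sυ sυ
    have e2 : υ * δ⁻¹ * υ⁻¹ = δ := by
      rw [← hυδ]
      simp only [hυi, ← mul_assoc, hυ2, one_mul]
      rw [mul_assoc, hυ2, mul_one]
    rwa [e2] at this

/-- An element of odd order in `C(t)` normalising `D` lies in `D`. -/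
theorem norm_D_odd [Finite G] {n : G} (hnt : n * S.ψ tF = S.ψ tF * n) (ho : Odd (orderOf n))
    (hn : ∀ x, x ∈ S.D → n * x * n⁻¹ ∈ S.D) : n ∈ S.D := by
  obtain ⟨-, -, -, -, -, -, -, hz3, hd3, hz1, hd1⟩ := facts_comm
  have hzm : S.ψ zF ∈ S.D := Subgroup.subset_closure (Or.inl rfl)
  have hdm : S.ψ dF ∈ S.D := Subgroup.subset_closure (Or.inr rfl)
  have hz2 : zF ^ 2 = zF⁻¹ := eq_inv_of_mul_eq_one_left (by rw [← pow_succ, hz3])
  have hd2 : dF ^ 2 = dF⁻¹ := eq_inv_of_mul_eq_one_left (by rw [← pow_succ, hd3])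
  have img : ∀ a ∈ S.D, a ≠ 1 → ¬ IsConj (pa S δ * pb S δ) a →
      (n * a * n⁻¹ = S.ψ zF ∨ n * a * n⁻¹ = (S.ψ zF)⁻¹) ∨
        (n * a * n⁻¹ = S.ψ dF ∨ n * a * n⁻¹ = (S.ψ dF)⁻¹) := by
    intro a ha ha1 hna
    obtain ⟨i, j, hij⟩ := S.mem_D_iff.1 (hn a ha)
    by_cases hi : i = 0
    · subst hi
      right
      fin_cases j
      · exact absurd (conj_eq_one_iff.1 (hij.trans (by simp))) ha1
      · exact Or.inl (by simpa using hij)
      · exact Or.inr (by simpa [hd2] using hij)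
    · by_cases hj : j = 0
      · subst hj
        left
        fin_cases i
        · exact absurd rfl hi
        · exact Or.inl (by simpa using hij)
        · exact Or.inr (by simpa [hz2] using hij)
      · exact absurd ((diag_conj_yel h hi hj).trans (isConj_iff.2 ⟨n, hij⟩).symm) hna
  have hzy : ¬ IsConj (pa S δ * pb S δ) (S.ψ zF) := not_small h (Or.inl fun c => by
    rw [z_eq]; simpa using pa_comm_pb_delta (S := S) c 1)
  have hdy : ¬ IsConj (pa S δ * pb S δ) (S.ψ dF) := not_small h (Or.inr fun c => by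
    rw [d_eq]; simpa using pb_comm_pa_delta (S := S) c 1)
  have hZ1 : S.ψ zF ≠ 1 := fun e => hz1 (S.inj (e.trans (map_one _).symm))
  have hD1 : S.ψ dF ≠ 1 := fun e => hd1 (S.inj (e.trans (map_one _).symm))
  have hinv : ∀ a b : G, n * a * n⁻¹ = b → n * a⁻¹ * n⁻¹ = b⁻¹ := fun a b e => by
    rw [← e]; group
  have hdz : S.ψ dF ≠ S.ψ zF ∧ S.ψ dF ≠ (S.ψ zF)⁻¹ := by
    rw [← map_inv]
    exact ⟨fun e => absurd (S.inj e) (by decide +kernel),
      fun e => absurd (S.inj e) (by decide +kernel)⟩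
  have hsq : n * n * S.ψ zF * (n * n)⁻¹ = S.ψ zF ∨ n * n * S.ψ zF * (n * n)⁻¹ = (S.ψ zF)⁻¹ := by
    have e2 : ∀ b, n * S.ψ zF * n⁻¹ = b → n * n * S.ψ zF * (n * n)⁻¹ = n * b * n⁻¹ := fun b e => by
      rw [← e]; group
    rcases img _ hzm hZ1 hzy with (e | e) | e
    · exact Or.inl ((e2 _ e).trans e)
    · exact Or.inl ((e2 _ e).trans (by rw [hinv _ _ e, inv_inv]))
    rcases img _ hdm hD1 hdy with e' | e'
    · rcases e with e | e <;> rw [e2 _ e]
      · exact e'
      · rcases e' with e' | e'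
        · exact Or.inr (hinv _ _ e')
        · exact Or.inl (by rw [hinv _ _ e', inv_inv])
    · exfalso
      have hcancel : ∀ a b : G, n * a * n⁻¹ = n * b * n⁻¹ → a = b := fun a b e =>
        mul_left_cancel (mul_right_cancel e)
      rcases e with e | e <;> rcases e' with e' | e'
      · exact hdz.1 (hcancel _ _ (e'.trans e.symm))
      · exact hdz.2 (hcancel _ _ (e'.trans (hinv _ _ e).symm))
      · exact hdz.2 (hcancel _ _ (e'.trans (by rw [hinv _ _ e, inv_inv])))
      · exact hdz.1 (hcancel _ _ (e'.trans e.symm))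
  have h4 : n ^ 2 ^ 2 * S.ψ zF * (n ^ 2 ^ 2)⁻¹ = S.ψ zF := by
    rw [show n ^ 2 ^ 2 = n * n * (n * n) by
        rw [show (2 : ℕ) ^ 2 = 4 by norm_num]; simp only [pow_succ, pow_zero, one_mul, mul_assoc],
      show n * n * (n * n) * S.ψ zF * (n * n * (n * n))⁻¹ =
        n * n * (n * n * S.ψ zF * (n * n)⁻¹) * (n * n)⁻¹ by
        simp only [mul_inv_rev, mul_assoc]]
    rcases hsq with e | e
    · rw [e, e]
    · rw [e, ← conj_inv, e,
        inv_inv]
  have hnz : n * S.ψ zF = S.ψ zF * n := by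
    have hmem : n ∈ centralizer ({S.ψ zF} : Set G) :=
      (zpowers_le.2 (mem_centralizer_singleton_iff.2 (mul_inv_eq_iff_eq_mul.1 h4)))
        (odd_eq_pow ho 2)
    exact mem_centralizer_singleton_iff.1 hmem
  have h2 := sq_cent_D h hzm hZ1 hnt hnz
  have hmem : n ∈ zpowers (n ^ 2 ^ 1) := odd_eq_pow ho 1
  exact (zpowers_le.2 (by rw [pow_one, pow_two]; exact h2)) hmem

/-- A subgroup of odd order of `C(t)` containing `D` is `D`. -/
theorem odd_eq_D [Finite G] {M : Subgroup G} (hM : M ≤ centralizer ({S.ψ tF} : Set G))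
    (hodd : Odd (Nat.card M)) (hDM : S.D ≤ M) : M = S.D := by
  haveI : Fact (Nat.Prime 3) := ⟨Nat.prime_three⟩
  have hD3 : IsPGroup 3 S.D := IsPGroup.of_card (n := 2) (by rw [S.card_D]; norm_num)
  have hmax : ¬ 3 ∣ (S.D.subgroupOf M).index := fun hd => S.not_dvd (by
    refine dvd_trans ?_ (card_subgroup_dvd_card M)
    rw [← relIndex_mul_card' hDM, S.card_D, show (27 : ℕ) = 3 * 9 by norm_num]
    exact Nat.mul_dvd_mul hd dvd_rfl)
  let Q : Sylow 3 M := (hD3.comap_subtype (K := M)).toSylow hmax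
  have hoddM : ∀ x ∈ M, Odd (orderOf x) := fun x hx =>
    hodd.of_dvd_nat (orderOf_dvd_natCard (G := M) ⟨x, hx⟩ |> fun e => by
      rwa [orderOf_mk] at e)
  have hcommD : IsMulCommutative S.D := IsPGroup.isMulCommutative_of_card_eq_prime_sq (p := 3)
    (by rw [S.card_D]; norm_num)
  have hN : normalizer ((Q : Subgroup M) : Set M) ≤ centralizer ((Q : Subgroup M) : Set M) := by
    intro n hn
    have hnD : (n : G) ∈ S.D := norm_D_odd h (mem_centralizer_singleton_iff.1 (hM n.2))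
      (hoddM _ n.2) fun x hx => ((mem_normalizer_iff.1 hn) ⟨x, hDM hx⟩).1 hx
    rw [mem_centralizer_iff]
    intro q hq
    have hc := congrArg Subtype.val (hcommD.is_comm.comm (⟨q, hq⟩ : S.D) ⟨n, hnD⟩)
    exact Subtype.ext hc
  obtain ⟨Q', K, hKn, hK⟩ := Transfer.hasNormalPComplement_of_normalizer_le_centralizer Q hN
  set K' := K.map M.subtype with hK'
  have hKM : K' ≤ M := map_subtype_le _
  have hcK : Nat.card K' = Nat.card K :=
    (Nat.card_congr (K.equivMapOfInjective _ M.subtype_injective).toEquiv).symm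
  have hK3 : ¬ 3 ∣ Nat.card K := by
    rw [← hK.index_eq_card]
    exact Q'.not_dvd_index
  have hDK : S.D ≤ normalizer (K' : Set G) := fun x hx => by
    have : (⟨x, hDM hx⟩ : M) ∈ normalizer (K : Set M) := by
      rw [normalizer_eq_top]; exact mem_top _
    have := mem_map_of_mem M.subtype this
    exact le_normalizer_map M.subtype this
  have hnc : ¬ IsCyclic S.D := by
    intro hc
    obtain ⟨x, hx⟩ := hc.exists_generator
    have h9 : orderOf x = 9 := by rw [orderOf_eq_card_of_forall_mem_zpowers hx, S.card_D]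
    obtain ⟨i, j, hij⟩ := S.mem_D_iff.1 x.2
    have hx3 : x ^ 3 = 1 := Subtype.ext (by
      show (x : G) ^ 3 = 1
      rw [hij, ← map_pow, show (zF ^ i.val * dF ^ j.val) ^ 3 = 1 by
        rw [(show Commute zF dF from facts_comm.1).pow_pow _ _ |>.mul_pow, ← pow_mul, ← pow_mul,
          mul_comm i.val, mul_comm j.val, pow_mul, pow_mul, facts_comm.2.2.2.2.2.2.2.1,
          facts_comm.2.2.2.2.2.2.2.2.1, one_pow, one_pow, mul_one], map_one])
    have := Nat.le_of_dvd (by norm_num) (orderOf_dvd_of_pow_eq_one hx3)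
    omega
  have hKbot : K' ≤ ⊥ := by
    haveI := hcommD
    refine Coprime.le_of_centralizer_le_of_not_isCyclic hnc hDK ?_ fun a ha ha1 => ?_
    · rw [S.card_D, hcK, show (9 : ℕ) = 3 ^ 2 by norm_num]
      exact Nat.Coprime.pow_left _ ((Nat.Prime.coprime_iff_not_dvd Nat.prime_three).2 hK3)
    rintro x ⟨hxK, hxa⟩
    have hxM : x ∈ M := hKM hxK
    have h2 : x * x ∈ S.D := sq_cent_D h ha ha1 (mem_centralizer_singleton_iff.1 (hM hxM))
      (mem_centralizer_singleton_iff.1 hxa)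
    have hxD : x ∈ S.D :=
      (zpowers_le.2 (by rw [pow_one, pow_two]; exact h2)) (odd_eq_pow (hoddM x hxM) 1)
    have hx9 : orderOf x ∣ 9 := by
      rw [← S.card_D]
      have := orderOf_dvd_natCard (⟨x, hxD⟩ : S.D)
      rwa [orderOf_mk] at this
    have hxK' : orderOf x ∣ Nat.card K' := by
      have := orderOf_dvd_natCard (⟨x, hxK⟩ : K')
      rwa [orderOf_mk] at this
    have h1 : orderOf x = 1 := by
      refine Nat.eq_one_of_dvd_coprimes ?_ hx9 hxK'
      rw [hcK, show (9 : ℕ) = 3 ^ 2 by norm_num]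
      exact Nat.Coprime.pow_left _ ((Nat.Prime.coprime_iff_not_dvd Nat.prime_three).2 hK3)
    exact mem_bot.2 (orderOf_eq_one_iff.1 h1)
  refine (eq_of_le_of_card_ge hDM ?_).symm
  have h1 : Nat.card K = 1 := by
    rw [← hcK, le_bot_iff.1 hKbot, card_bot]
  have h2 := hK.card_mul
  rw [h1, one_mul] at h2
  rw [← h2]
  refine le_of_eq ?_
  rw [Sylow.card_eq_multiplicity Q', ← Sylow.card_eq_multiplicity Q]
  exact Nat.card_congr (subgroupOfEquivOfLe hDM).toEquiv

theorem cent_t [Finite G] : centralizer ({S.ψ tF} : Set G) ≤ normalizer (S.N : Set G) := by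
  haveI : Fact (Nat.Prime 2) := ⟨Nat.prime_two⟩
  obtain ⟨sυ, sδ, -, -⟩ := sign_basic
  obtain ⟨T, B, hT, hB⟩ := exists_T h
  set H := centralizer ({S.ψ tF} : Set G) with hH
  have hTH : T ≤ H := fun x hx => by
    obtain ⟨a, b, c, d, rfl⟩ := (hT x).1 hx
    exact mem_centralizer_singleton_iff.2 (el_commute h a b c d)
  have hT2 : IsPGroup 2 T := IsPGroup.of_card (n := 4) (by rw [card_T h hT]; norm_num)
  have hBT : B ≤ T := fun x hx => by
    obtain ⟨a, b, c, rfl⟩ := (hB x).1 hx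
    exact (hT _).2 ⟨a, b, c, 0, rfl⟩
  -- a Sylow subgroup of `C(t)`
  obtain ⟨P, hP⟩ := (hT2.comap_subtype (K := H)).exists_le_sylow
  have hPT : (P : Subgroup H).map H.subtype = T :=
    T_sylow h hT (P.2.map _) (fun x hx => ⟨⟨x, hTH hx⟩, hP hx, rfl⟩) (map_subtype_le _)
  have hPmem : ∀ x : H, x ∈ (P : Subgroup H) ↔ (x : G) ∈ T := fun x => by
    rw [← hPT]
    exact ⟨fun hx => ⟨x, hx, rfl⟩, fun ⟨y, hy, e⟩ => Subtype.ext e ▸ hy⟩
  let B' : Subgroup H := B.subgroupOf H
  -- fusion never leaves `B`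
  have hdd : ∀ (v : G), v * S.ψ tF = S.ψ tF * v → ∀ a b c d a' b' c' d' : Fin 2,
      v * el S a b c d * v⁻¹ = el S a' b' c' d' → d = d' := by
    intro v hv a b c d a' b' c' d' e
    by_contra hne
    by_cases hd : d = 0
    · subst hd
      have : d' = 1 := Fin.eq_one_of_ne_zero d' (Ne.symm hne)
      subst this
      exact B_not_swap h hv a b c a' b' c' e
    · have hd1 : d = 1 := Fin.eq_one_of_ne_zero d hd
      subst hd1
      have : d' = 0 := by revert hne; clear e; revert d'; decide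
      subst this
      refine B_not_swap h (v := v⁻¹) ((Commute.inv_left hv).eq) a' b' c' a b c ?_
      rw [← e]; group
  have hfoc : (P : Subgroup H).focalSubgroup ≤ B' := by
    rw [focalSubgroup_def, closure_le]
    rintro z ⟨hz, x, hx, v, rfl⟩
    have hx' : (x⁻¹ : H) ∈ (P : Subgroup H) := inv_mem hx
    have hy : v * x⁻¹ * v⁻¹ ∈ (P : Subgroup H) := by
      have := mul_mem hx' hz
      rwa [commutatorElement_def, show x⁻¹ * (x * v * x⁻¹ * v⁻¹) = v * x⁻¹ * v⁻¹ by group] at this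
    obtain ⟨a, b, c, d, e⟩ := (hT _).1 ((hPmem x).1 hx)
    obtain ⟨a', b', c', d', e'⟩ := (hT _).1 ((hPmem _).1 hy)
    show ((⁅x, v⁆ : H) : G) ∈ B
    have hval : ((⁅x, v⁆ : H) : G) = el S a b c d * el S a' b' c' d' := by
      rw [← e, ← e', commutatorElement_def]
      simp [mul_assoc]
    have hxi : ((x⁻¹ : H) : G) = if d = 0 then el S a b c d else el S b a c d := by
      rw [coe_inv, e, el_inv h]
    have hvv := mem_centralizer_singleton_iff.1 v.2
    have e'' : (v : G) * ((x⁻¹ : H) : G) * (v : G)⁻¹ = el S a' b' c' d' := by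
      rw [← e']; simp
    rw [hxi] at e''
    have hd : d = d' := by
      by_cases hd0 : d = 0
      · rw [if_pos hd0] at e''
        exact hdd v hvv _ _ _ _ _ _ _ _ e''
      · rw [if_neg hd0] at e''
        exact hdd v hvv _ _ _ _ _ _ _ _ e''
    rw [hval, el_mul h, ← hd]
    have h2 : ∀ y : Fin 2, y + y = 0 := by decide
    rw [h2 d]
    split <;> exact (hB _).2 ⟨_, _, _, rfl⟩
  let χ := (P : Subgroup H).transferFocal
  let Bq := (B'.subgroupOf (P : Subgroup H)).map
    (QuotientGroup.mk' (P : Subgroup H).focalSubgroupOf)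
  let H₁ := Bq.comap χ
  haveI hBqn : Bq.Normal := ⟨fun b hb x => by
    rw [mul_comm' x b, mul_inv_cancel_right]; exact hb⟩
  haveI : H₁.Normal := inferInstance
  have hpow : ∀ q : (P : Subgroup H), χ (q : H) =
      (q : (P : Subgroup H) ⧸ (P : Subgroup H).focalSubgroupOf) ^ (P : Subgroup H).index :=
    fun q => (P : Subgroup H).transferFocal_eq_pow q
  have hH1P : ∀ q : (P : Subgroup H), (q : H) ∈ H₁ ↔ ((q : H) : G) ∈ B := by
    intro q
    constructor
    · intro hq
      have hq' : χ (q : H) ∈ Bq := hq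
      rw [hpow] at hq'
      have hcop : (Nat.card (P : Subgroup H)).Coprime (P : Subgroup H).index := P.card_coprime_index
      obtain ⟨k, hk⟩ := exists_pow_eq_self_of_coprime
        (x := q) (n := (P : Subgroup H).index)
        (Nat.Coprime.symm (hcop.coprime_dvd_left (orderOf_dvd_natCard q)))
      have : (q : (P : Subgroup H) ⧸ (P : Subgroup H).focalSubgroupOf) ∈ Bq := by
        have := pow_mem hq' k
        rwa [← QuotientGroup.mk_pow, ← QuotientGroup.mk_pow, hk] at this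
      obtain ⟨b, hb, hbq⟩ := this
      have hf : b⁻¹ * q ∈ (P : Subgroup H).focalSubgroupOf := QuotientGroup.eq.1 hbq
      have hf' : ((b⁻¹ * q : (P : Subgroup H)) : H) ∈ B' := hfoc hf
      have hb' : ((b : H) : G) ∈ B := hb
      have hf'' : ((b : H) : G)⁻¹ * ((q : H) : G) ∈ B := hf'
      have := mul_mem hb' hf''
      rwa [mul_inv_cancel_left] at this
    · intro hq
      show χ (q : H) ∈ Bq
      rw [hpow]
      exact pow_mem (show (q : (P : Subgroup H) ⧸ (P : Subgroup H).focalSubgroupOf) ∈ Bq from ⟨q, hq, rfl⟩) _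
  have hodd1 : ∀ x : H, Odd (orderOf x) → x ∈ H₁ := by
    intro x hx
    show χ x ∈ Bq
    have h1 : orderOf (χ x) ∣ orderOf x := orderOf_map_dvd χ x
    obtain ⟨k, hk⟩ := IsPGroup.iff_orderOf.1 (P.2.to_quotient (P : Subgroup H).focalSubgroupOf) (χ x)
    have h2 : orderOf (χ x) = 1 := Nat.eq_one_of_dvd_coprimes
      (Nat.Coprime.pow_left k hx.coprime_two_left) (dvd_of_eq hk) h1
    rw [orderOf_eq_one_iff.1 h2]
    exact one_mem _
  have hgen : ∀ x : H, ∃ q : (P : Subgroup H), x * (q : H)⁻¹ ∈ H₁ := by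
    intro x
    obtain ⟨q, hq⟩ := QuotientGroup.mk_surjective (χ x)
    obtain ⟨r, hr⟩ := (P.2.powEquiv' P.not_dvd_index).surjective q
    refine ⟨r, ?_⟩
    show χ (x * (r : H)⁻¹) ∈ Bq
    have hr' : r ^ (P : Subgroup H).index = q := hr
    rw [map_mul, map_inv, hpow, ← QuotientGroup.mk_pow, hr', hq, mul_inv_cancel]
    exact one_mem _
  set H1 := H₁.map H.subtype with hH1
  have hH1H : H1 ≤ H := map_subtype_le _
  have hH1mem : ∀ x : H, (x : G) ∈ H1 ↔ x ∈ H₁ := fun x =>
    ⟨fun ⟨y, hy, e⟩ => Subtype.ext e ▸ hy, fun hx => ⟨x, hx, rfl⟩⟩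
  have hT1 : ∀ x ∈ T, x ∈ H1 → x ∈ B := fun x hx hx1 =>
    (hH1P ⟨⟨x, hTH hx⟩, (hPmem ⟨x, hTH hx⟩).2 hx⟩).1 ((hH1mem ⟨x, hTH hx⟩).1 hx1)
  have hB1 : B ≤ H1 := fun x hx =>
    (hH1mem ⟨x, hTH (hBT hx)⟩).2
      ((hH1P ⟨⟨x, hTH (hBT hx)⟩, (hPmem ⟨x, hTH (hBT hx)⟩).2 (hBT hx)⟩).2 hx)
  have hD1 : S.D ≤ H1 := fun x hx =>
    (hH1mem ⟨x, nine_le_cent_t hx⟩).2 (hodd1 _ (by
      rw [← orderOf_injective H.subtype H.subtype_injective]
      refine Odd.of_dvd_nat (n := 9) (by decide) ?_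
      rw [← S.card_D]
      have := orderOf_dvd_natCard (⟨x, hx⟩ : S.D)
      rwa [orderOf_mk] at this))
  have hB2 : IsPGroup 2 B := hT2.to_le hBT
  have hHmax : ¬ 2 ∣ T.relIndex H := by
    have e : T.subgroupOf H = (P : Subgroup H) := by
      ext x; rw [mem_subgroupOf, hPmem]
    rw [relIndex, e]
    exact P.not_dvd_index
  have hBmax : ¬ 2 ∣ (B.subgroupOf H1).index := by
    intro hd
    have h16 : 2 ^ 4 ∣ Nat.card H1 := by
      rw [← relIndex_mul_card' hB1, card_B h hB, show (2 : ℕ) ^ 4 = 2 * 8 by norm_num]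
      exact Nat.mul_dvd_mul hd dvd_rfl
    obtain ⟨R, hR⟩ := Sylow.exists_subgroup_card_pow_prime 2 h16
    have hRc : Nat.card (R.map H1.subtype) = 2 ^ 4 := by
      rw [← Nat.card_congr (R.equivMapOfInjective _ H1.subtype_injective).toEquiv, hR]
    obtain ⟨k, hk, hk'⟩ := Transfer.exists_conj_le_of_isPGroup hT2 hTH hHmax
      (IsPGroup.of_card hRc) ((map_subtype_le R).trans hH1H)
    have hsub : ∀ r ∈ R.map H1.subtype, k⁻¹ * r * k ∈ B := fun r hr => by
      refine hT1 _ (hk' r hr) ?_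
      obtain ⟨y, hy, rfl⟩ := map_subtype_le R hr
      exact ⟨(⟨k, hk⟩ : H)⁻¹ * y * ⟨k, hk⟩, by
        have := Subgroup.Normal.conj_mem inferInstance y hy (⟨k, hk⟩ : H)⁻¹
        rwa [inv_inv] at this, rfl⟩
    have := Nat.card_le_card_of_injective
      (fun r : R.map H1.subtype => (⟨k⁻¹ * (r : G) * k, hsub r r.2⟩ : B))
      (fun r s e => Subtype.ext (mul_left_cancel (mul_right_cancel (congrArg Subtype.val e))))
    rw [hRc, card_B h hB] at this
    norm_num at this
  let SB : Sylow 2 H1 := (hB2.comap_subtype (K := H1)).toSylow hBmax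
  have hcen : normalizer ((SB : Subgroup H1) : Set H1) ≤ centralizer ((SB : Subgroup H1) : Set H1) := by
    intro n hn
    have hnH : (n : G) * S.ψ tF = S.ψ tF * n := mem_centralizer_singleton_iff.1 (hH1H n.2)
    have himg : ∀ x ∈ B, (n : G) * x * (n : G)⁻¹ ∈ B := fun x hx =>
      ((mem_normalizer_iff.1 hn) ⟨x, hB1 hx⟩).1 hx
    have he2 : pb S υ ∈ B := (hB _).2 ⟨0, 1, 0, (el_e2 h).symm⟩
    have he1 : pa S υ ∈ B := (hB _).2 ⟨1, 0, 0, (el_e1 h).symm⟩
    obtain ⟨a, b, c, e⟩ := (hB _).1 (himg _ he2)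
    obtain ⟨x, y, i, j, hx, hy, htx, hty, en⟩ := form_of_commute h (mem_of_e2 h hnH e) hnH
    obtain ⟨mx, kx, ex⟩ := fixed_decomp x hx htx
    obtain ⟨my, ky, ey⟩ := fixed_decomp y hy hty
    have hj : j = 0 := by
      have hform : (n : G) = pa S (δ ^ mx.val) * pb S (δ ^ my.val) * el S kx ky i j := by
        rw [en, ex, ey, el, ← mul_forms h (by simp [sδ]) (sign_pow_υ h kx)]
        simp only [mul_assoc]
      have hDm : pa S (δ ^ mx.val) * pb S (δ ^ my.val) ∈ S.D := by
        have h1 : S.ψ zF ∈ S.D := Subgroup.subset_closure (Or.inl rfl)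
        have h2 : S.ψ dF ∈ S.D := Subgroup.subset_closure (Or.inr rfl)
        rw [z_eq] at h1
        rw [d_eq] at h2
        rw [map_pow, map_pow]
        exact S.D.mul_mem (S.D.pow_mem h2 _) (S.D.pow_mem h1 _)
      have hel : el S kx ky i j ∈ H1 := by
        have := H1.mul_mem (H1.inv_mem (hD1 hDm)) n.2
        rwa [hform, inv_mul_cancel_left] at this
      obtain ⟨p, q, r, epqr⟩ := (hB _).1 (hT1 _ ((hT _).2 ⟨_, _, _, _, rfl⟩) hel)
      exact (el_inj h epqr).2.2.2
    subst hj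
    obtain ⟨-, -, tυ, -⟩ := five_facts
    have hz1 : τ * (1 : P5) * τ = 1 := by rw [mul_one, five_facts.1]
    have conjform : ∀ p q : P5, Perm.sign p = 1 → Perm.sign q = 1 → τ * p * τ = p → τ * q * τ = q →
        (n : G) * (pa S p * pb S q) * (n : G)⁻¹ =
          pa S (x * p * x⁻¹) * pb S (y * q * y⁻¹) := by
      intro p q hp hq htp htq
      rw [en]
      calc pa S x * pb S y * rep S i 0 * (pa S p * pb S q) * (pa S x * pb S y * rep S i 0)⁻¹
          = pa S x * pb S y * (rep S i 0 * (pa S p * pb S q)) * (rep S i 0)⁻¹ *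
              (pa S x * pb S y)⁻¹ := by group
        _ = pa S x * pb S y * (pa S p * pb S q) * (pa S x * pb S y)⁻¹ := by
            rw [rep_move h hp hq htp htq, if_pos rfl]; group
        _ = _ := by
            rw [inv_form h hx hy, mul_forms h hy hp,
              mul_forms h (by simp [hy, hq]) (by simp [hx])]
    have fix : ∀ p : P5, Perm.sign p = 1 → τ * p * τ = p → ∀ k : Fin 2, p = υ ^ k.val → p ≠ 1 →
        p = υ := fun p _ _ k e hne => by
      fin_cases k
      · exact absurd (by simpa using e) hne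
      · simpa using e
    have hυx : x * υ * x⁻¹ = υ := by
      have h1 := conjform υ 1 sυ (by simp) tυ hz1
      rw [map_one, mul_one, mul_one, mul_inv_cancel, map_one, mul_one] at h1
      obtain ⟨a, b, c, e⟩ := (hB _).1 (h1 ▸ himg _ he1)
      have e' : pa S (x * υ * x⁻¹) * pb S 1 * rep S 0 0 = el S a b c 0 := by
        rw [← e]; simp [rep]
      obtain ⟨e3, -⟩ := uniq h (by simp [hx, sυ]) (by simp) (sign_pow_υ h a) (sign_pow_υ h b) e'
      exact fix _ (by simp [hx, sυ]) (by rw [e3]; exact tau_pow h a) a e3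
        fun e => five_facts.2.2.2.2.2.2.1 (conj_eq_one_iff.1 e)
    have hυy : y * υ * y⁻¹ = υ := by
      have h1 := conjform 1 υ (by simp) sυ hz1 tυ
      rw [map_one, one_mul, mul_one, mul_inv_cancel, map_one, one_mul] at h1
      obtain ⟨a, b, c, e⟩ := (hB _).1 (h1 ▸ himg _ he2)
      have e' : pa S 1 * pb S (y * υ * y⁻¹) * rep S 0 0 = el S a b c 0 := by
        rw [← e]; simp [rep]
      obtain ⟨-, e3, -⟩ := uniq h (by simp) (by simp [hy, sυ]) (sign_pow_υ h a) (sign_pow_υ h b) e'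
      exact fix _ (by simp [hy, sυ]) (by rw [e3]; exact tau_pow h b) b e3
        fun e => five_facts.2.2.2.2.2.2.1 (conj_eq_one_iff.1 e)
    rw [mem_centralizer_iff]
    intro q hq
    obtain ⟨a, b, c, eq⟩ := (hB _).1 hq
    refine Subtype.ext ?_
    have eq' : (q : G) = el S a b c 0 := eq
    show (q : G) * n = n * q
    rw [eq']
    have hcx : x * υ ^ a.val * x⁻¹ = υ ^ a.val := by rw [← conj_pow, hυx]
    have hcy : y * υ ^ b.val * y⁻¹ = υ ^ b.val := by rw [← conj_pow, hυy]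
    have h1 := conjform (υ ^ a.val) (υ ^ b.val) (sign_pow_υ h a) (sign_pow_υ h b) (tau_pow h a)
      (tau_pow h b)
    rw [hcx, hcy] at h1
    have h2 : (n : G) * rep S c 0 * (n : G)⁻¹ = rep S c 0 := by
      refine mul_inv_eq_iff_eq_mul.2 ?_
      have hcomm : Commute (n : G) (S.ψ tF) := hnH
      have : rep S c 0 = S.ψ tF ^ c.val := by simp [rep]
      rw [this]
      exact (hcomm.pow_right _).eq
    calc el S a b c 0 * n = (n : G) * (pa S (υ ^ a.val) * pb S (υ ^ b.val)) * (n : G)⁻¹ *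
          ((n : G) * rep S c 0 * (n : G)⁻¹) * n := by rw [h1, h2]; rfl
      _ = n * el S a b c 0 := by simp only [el]; group
  have hM := MonoidHom.ker_transferSylow_isComplement' SB hcen
  set M := (MonoidHom.transferSylow SB hcen).ker
  have hSB8 : Nat.card (SB : Subgroup H1) = 8 := by
    rw [← card_B h hB]
    exact Nat.card_congr (subgroupOfEquivOfLe hB1).toEquiv
  set M' := M.map H1.subtype with hM'
  have hoddM : Odd (Nat.card M') := by
    rw [← Nat.card_congr (M.equivMapOfInjective _ H1.subtype_injective).toEquiv,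
      ← hM.index_eq_card]
    exact Nat.not_even_iff_odd.1 fun e => SB.not_dvd_index (even_iff_two_dvd.1 e)
  have hDM : S.D ≤ M' := fun x hx => by
    refine ⟨⟨x, hD1 hx⟩, ?_, rfl⟩
    have h8 : (⟨x, hD1 hx⟩ : H1) ^ 2 ^ 3 ∈ M := by
      have := pow_index_mem (H := M) (⟨x, hD1 hx⟩ : H1)
      rwa [hM.symm.index_eq_card, hSB8] at this
    refine (zpowers_le.2 h8) (odd_eq_pow ?_ 3)
    rw [orderOf_mk]
    refine Odd.of_dvd_nat (n := 9) (by decide) ?_
    rw [← S.card_D]
    have := orderOf_dvd_natCard (⟨x, hx⟩ : S.D)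
    rwa [orderOf_mk] at this
  have hMD : M' = S.D := odd_eq_D h ((map_subtype_le M).trans hH1H) hoddM hDM
  have hBN : B ≤ normalizer (S.N : Set G) := fun x hx => by
    obtain ⟨a, b, c, rfl⟩ := (hB x).1 hx
    exact el_le h a b c 0
  have hH1N : H1 ≤ normalizer (S.N : Set G) := fun x hx => by
    obtain ⟨⟨m, s⟩, e⟩ := (isComplement'_def.1 hM).2 ⟨x, hx⟩
    have e' : ((m : H1) : G) * ((s : H1) : G) = x := congrArg Subtype.val e
    have hm : ((m : H1) : G) ∈ M' := ⟨(m : H1), m.2, rfl⟩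
    rw [hMD] at hm
    rw [← e']
    exact mul_mem (D_le_NN h hm) (hBN s.2)
  intro x hx
  obtain ⟨q, hq⟩ := hgen ⟨x, hx⟩
  obtain ⟨a, b, c, d, e⟩ := (hT _).1 ((hPmem (q : H)).1 q.2)
  have h1 := hH1N ((hH1mem _).2 hq)
  have h2 : ((q : H) : G) ∈ normalizer (S.N : Set G) := e ▸ el_le h a b c d
  have := mul_mem h1 h2
  rwa [show ((⟨x, hx⟩ * (q : H)⁻¹ : H) : G) * ((q : H) : G) = x by simp] at this

/-- The common centraliser of `t` and a swapping involution. -/
theorem card_cent_swap_t [Finite G] (i : Fin 2) :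
    ¬ 16 ∣ Nat.card (centralizer ({rep S i 1, S.ψ tF} : Set G)) := by
  obtain ⟨sυ, sδ, -, -⟩ := sign_basic
  obtain ⟨-, -, -, htδ, -, -, -, hδ1, hδ3, -⟩ := five_facts
  have hA : (Finset.univ.filter fun a : P5 => Perm.sign a = 1 ∧ τ * a * τ = a).card = 6 := by
    decide +kernel
  refine card_cent_pair_aux h
    ((((Finset.univ.filter fun a : P5 => Perm.sign a = 1 ∧ τ * a * τ = a) ×ˢ
      (Finset.univ : Finset (Fin 2 × Fin 2))).image fun p => (p.1, p.1, p.2)))
    ?_ (fun x hx => ?_) ?_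
  · rw [Finset.card_image_of_injective _ (fun p q e => by
      simp only [Prod.mk.injEq] at e
      exact Prod.ext e.1 e.2.2), Finset.card_product, hA]
    rfl
  · have hxt : x * S.ψ tF = S.ψ tF * x := (mem_centralizer_iff.1 hx _ (Or.inr rfl)).symm
    have hxr : x * rep S i 1 = rep S i 1 * x := (mem_centralizer_iff.1 hx _ (Or.inl rfl)).symm
    obtain ⟨a, b, p, q, ha, hb, hta, htb, rfl⟩ :=
      form_of_commute h (cent_t h (mem_centralizer_singleton_iff.2 hxt)) hxt
    have e : pa S a * pb S b * rep S p q = pa S b * pb S a * rep S p q := by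
      have h1 : rep S i 1 * (pa S a * pb S b * rep S p q) =
          pa S b * pb S a * rep S p q * rep S i 1 := by
        rw [← mul_assoc, rep_move h ha hb hta htb, if_neg (by decide), mul_assoc,
          (rep_comm h i 1 p q).eq, ← mul_assoc]
      rw [← hxr] at h1
      exact mul_right_cancel h1
    obtain ⟨eab, -, -, -⟩ := uniq h ha hb hb ha e
    subst eab
    exact ⟨(a, a, p, q), Finset.mem_image.2 ⟨(a, p, q), by simp [ha, hta], rfl⟩, rfl⟩
  · have hmem : pa S δ * pb S δ ∈ centralizer ({rep S i 1, S.ψ tF} : Set G) := by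
      rw [mem_centralizer_iff]
      rintro y (rfl | rfl)
      · exact yel_comm h i 1
      · simpa [rep] using yel_comm h 1 0
    have ho : orderOf (⟨_, hmem⟩ : centralizer ({rep S i 1, S.ψ tF} : Set G)) = 3 := by
      haveI : Fact (Nat.Prime 3) := ⟨Nat.prime_three⟩
      refine orderOf_eq_prime (Subtype.ext ?_) (fun e => hδ1 ?_)
      · show (pa S δ * pb S δ) ^ 3 = 1
        rw [(show Commute (pa S δ) (pb S δ) from pa_pb h sδ sδ).mul_pow, ← map_pow, ← map_pow,
          hδ3, map_one, map_one, one_mul]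
      · have e' : pa S δ * pb S δ = pa S 1 * pb S 1 := by
          rw [map_one, map_one, one_mul]; exact congrArg Subtype.val e
        exact (form_inj h sδ sδ (by simp) (by simp) e').1
    have hd := orderOf_dvd_natCard (⟨_, hmem⟩ : centralizer ({rep S i 1, S.ψ tF} : Set G))
    rwa [ho] at hd

theorem swap_not_c [Finite G] (i : Fin 2) : ¬ IsConj (rep S i 1) (pa S α₀ * pb S α₀) := by
  intro hc
  have hcm : S.ψ tF * rep S i 1 = rep S i 1 * S.ψ tF := by
    simpa [rep] using (rep_comm h 1 0 i 1).eq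
  have hf := c_fuse h hc (t_sq S) hcm (card_cent_swap_t h i)
  have e : S.ψ tF * rep S i 1 = rep S (1 + i) 1 := by
    have := rep_mul h 1 0 i 1
    simpa [rep] using this
  rw [e] at hf
  exact t_not_swap h rfl hf.symm

theorem outer_not_W [Finite G] {x w : G} (hx : x ∈ normalizer (S.N : Set G)) (hxN : x ∉ S.N)
    (hx2 : x * x = 1) (hw : w ∈ S.W) (hw1 : w ≠ 1) : ¬ IsConj x w := by
  intro hc
  rcases W_cases h hw hw1 with e | e
  · exact outer_not_a h hx hxN hx2 (hc.trans e)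
  · rcases outer_cases h hx hxN hx2 with e' | e' | e'
    · exact t_not_c h (e'.trans (hc.trans e))
    · exact swap_not_c h 0 (by simpa [rep] using e'.trans (hc.trans e))
    · exact swap_not_c h 1 (by simpa [rep] using e'.trans (hc.trans e))

theorem t_coset_not_swap [Finite G] {x y n m : G} (hn : n ∈ S.N) (hm : m ∈ S.N)
    (hx : x = n * S.ψ tF) (hx2 : x * x = 1) (hy : y = m * S.g ∨ y = m * (S.ψ tF * S.g))
    (hy2 : y * y = 1) : ¬ IsConj x y := by
  obtain ⟨a, b, ha, hb, rfl⟩ := mem_N h hn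
  obtain ⟨p, q, hp, hq, rfl⟩ := mem_N h hm
  have e1 : x = pa S a * pb S b * rep S 1 0 := by simp [rep, hx]
  obtain ⟨i, e2⟩ : ∃ i, y = pa S p * pb S q * rep S i 1 := by
    rcases hy with e | e
    · exact ⟨0, by simp [rep, e]⟩
    · exact ⟨1, by simp [rep, e]⟩
  subst e1 e2
  intro hc
  have c1 := outer_conj h ha hb (by decide) hx2
  have c2 := outer_conj h hp hq (fun hh => absurd hh.2 (by decide)) hy2
  exact t_not_swap h (i := i) rfl (by simpa [rep] using (c2.trans (c1.trans hc).symm))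

end CfsgLib.SEightThree.WrInvol
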