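import Cfsg.Agent.Lib.SEightThree.WrInvol.Frame
import Cfsg.Agent.Lib.Transfer.Fusion

/-!
Classes of the outer involutions in the wreathed configuration.
-/

set_option autoImplicit false
set_option linter.style.haveILetI false
set_option linter.unusedVariables false
set_option linter.unusedSimpArgs false
set_option linter.unusedSectionVars false
set_option maxRecDepth 100000

namespace CfsgLib.SEightThree.WrInvol

open Subgroup Equiv

universe u

theorem diag_adjust : ∀ i j : Fin 3, i ≠ 0 → j ≠ 0 → ∃ e : Fin 2,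
    (υ ^ e.val * δ ^ i.val * (υ ^ e.val)⁻¹ = δ ∧ δ ^ j.val = δ) ∨
      (υ ^ e.val * δ ^ i.val * (υ ^ e.val)⁻¹ = δ⁻¹ ∧ δ ^ j.val = δ⁻¹) := by
  decide +kernel

theorem sigma_facts : (swap 2 3 : P5) * τ = τ * swap 2 3 ∧ Perm.sign ((swap 2 3 : P5) * τ) = 1 ∧
    (∀ i : Fin 4, ∃ j : Fin 4, (swap 2 3 : P5) * four i * swap 2 3 = four j) := by
  decide +kernel

theorem four_three : four 3 = (aF * bF).2 ∧ ∀ i j : Fin 4, four i = four j → i = j := by
  decide +kernel

theorem s_frame : fF * tF * (eF * tF) = eF * fF ∧ eF * fF * (eF * fF) = 1 := by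
  decide +kernel

theorem relIndex_mul_card' {G : Type u} [Group G] {A B : Subgroup G} (hle : A ≤ B) :
    A.relIndex B * Nat.card A = Nat.card B := by
  have h1 := index_mul_card (A.subgroupOf B)
  rwa [Nat.card_congr (subgroupOfEquivOfLe hle).toEquiv] at h1

/-- An involution normalising an elementary group of order sixteen through `x` is conjugate to
its product with `x` when their common centraliser is small. -/
theorem conj_mul_of_four {G : Type u} [Group G] [Finite G] (R : Subgroup G) {x v : G}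
    (hR : Nat.card R = 16) (hsq : ∀ r ∈ R, r * r = 1) (hx : x ∈ R) (hv : v * v = 1)
    (hnorm : ∀ r ∈ R, v * r * v ∈ R) (hvx : v * x = x * v)
    (h16 : ¬ 16 ∣ Nat.card (centralizer ({x, v} : Set G))) : IsConj v (v * x) := by
  have hvi : v⁻¹ = v := inv_eq_of_mul_eq_one_right hv
  have hri : ∀ r ∈ R, r⁻¹ = r := fun r hr => inv_eq_of_mul_eq_one_right (hsq r hr)
  have hcm : ∀ a ∈ R, ∀ b ∈ R, a * b = b * a := fun a ha b hb => by
    calc a * b = (a * b)⁻¹ := (hri _ (mul_mem ha hb)).symm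
      _ = b * a := by rw [mul_inv_rev, hri a ha, hri b hb]
  set C := centralizer ({x, v} : Set G) with hC
  have hmemC : ∀ {a : G}, a * x = x * a → a * v = v * a → a ∈ C := fun {a} h1 h2 => by
    rw [hC, mem_centralizer_iff]
    rintro y (rfl | rfl)
    exacts [h1.symm, h2.symm]
  have hvR : v ∉ R := fun hvR => h16 (by
    rw [← hR]
    exact card_dvd_of_le fun r hr => hmemC (hcm r hr x hx) (hcm r hr v hvR))
  let f : R →* G :=
    { toFun := fun r => (r : G) * (v * r * v)
      map_one' := by simp [hv]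
      map_mul' := fun a b => by
        have h1 : (b : G) * (v * a * v) = v * a * v * b := hcm _ b.2 _ (hnorm _ a.2)
        calc (a : G) * b * (v * (a * b) * v)
            = (a : G) * b * ((v * a * v) * (v * b * v)) := by
              simp only [mul_assoc]
              rw [← mul_assoc v v, hv, one_mul]
          _ = (a : G) * ((b : G) * (v * a * v)) * (v * b * v) := by simp only [mul_assoc]
          _ = (a : G) * (v * a * v) * ((b : G) * (v * b * v)) := by
              rw [h1]; simp only [mul_assoc] }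
  have hfR : f.range ≤ R ⊓ C := by
    rintro _ ⟨r, rfl⟩
    have hm : (r : G) * (v * r * v) ∈ R := mul_mem r.2 (hnorm _ r.2)
    refine ⟨hm, hmemC (hcm _ hm x hx) ?_⟩
    show (r : G) * (v * r * v) * v = v * ((r : G) * (v * r * v))
    calc (r : G) * (v * r * v) * v = (v * r * v) * r * v := by rw [hcm _ r.2 _ (hnorm _ r.2)]
      _ = v * ((r : G) * (v * r * v)) := by simp only [mul_assoc]
  have hker : Nat.card f.ker = Nat.card ↥(R ⊓ C) := by
    have e : f.ker = (R ⊓ C).subgroupOf R := by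
      ext r
      have hr : r ∈ f.ker ↔ (r : G) * (v * r * v) = 1 := MonoidHom.mem_ker
      rw [hr, mem_subgroupOf]
      constructor
      · intro e
        have e' : v * r * v = (r : G) := by rw [← inv_eq_of_mul_eq_one_right e, hri _ r.2]
        refine ⟨r.2, hmemC (hcm _ r.2 x hx) ?_⟩
        calc (r : G) * v = v * r * v * v := by rw [e']
          _ = v * r := by rw [mul_assoc (v * (r : G)), hv, mul_one]
      · intro hrC
        have h2 : v * r = r * v := mem_centralizer_iff.1 hrC.2 v (Or.inr rfl)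
        rw [h2, mul_assoc (r : G) v v, hv, mul_one, hsq _ r.2]
    rw [e]
    exact Nat.card_congr (subgroupOfEquivOfLe inf_le_left).toEquiv
  have hprod : Nat.card ↥(R ⊓ C) * Nat.card f.range = 16 := by
    rw [← hker, ← index_ker, card_mul_index, hR]
  have hle : Nat.card ↥(R ⊓ C) ≤ 4 := by
    obtain ⟨n, -, hn⟩ := (Nat.dvd_prime_pow Nat.prime_two).1
      (show Nat.card ↥(R ⊓ C) ∣ 2 ^ 4 by rw [show (2 : ℕ) ^ 4 = 16 by norm_num]; exact ⟨_, hprod.symm⟩)
    by_contra h5
    have h8 : 8 ∣ Nat.card ↥(R ⊓ C) := by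
      rw [hn, show (8 : ℕ) = 2 ^ 3 by norm_num]
      refine pow_dvd_pow 2 ?_
      by_contra h3
      have : 2 ^ n ≤ 2 ^ 2 := Nat.pow_le_pow_right (by norm_num) (by omega)
      omega
    -- adjoining `v` gives sixteen elements in the common centraliser
    have hvC : v ∈ C := hmemC hvx rfl
    set K := (R ⊓ C) ⊔ zpowers v with hK
    have hKC : K ≤ C := sup_le inf_le_right (zpowers_le.2 hvC)
    refine h16 (dvd_trans ?_ (card_dvd_of_le hKC))
    have hlt : R ⊓ C < K := lt_of_le_of_ne le_sup_left fun e =>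
      by
      have hvK : v ∈ K := mem_sup_right (mem_zpowers v)
      rw [← e] at hvK
      exact hvR hvK.1
    have h2 : 2 ∣ (R ⊓ C).relIndex K := by
      have hKn : K ≤ normalizer ((R ⊓ C : Subgroup G) : Set G) := by
        refine sup_le le_normalizer (zpowers_le.2 ?_)
        refine mem_normalizer_iff.2 fun y => ?_
        have key : ∀ y, y ∈ R ⊓ C → v * y * v⁻¹ ∈ R ⊓ C := fun y hy => by
          have h2 : v * y = y * v := mem_centralizer_iff.1 hy.2 v (Or.inr rfl)
          rwa [h2, mul_inv_cancel_right]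
        refine ⟨key y, fun hy => ?_⟩
        have := key _ hy
        rwa [hvi, show v * (v * y * v) * v = v * v * y * (v * v) by simp only [mul_assoc], hv,
          one_mul, mul_one] at this
      haveI : ((R ⊓ C).subgroupOf K).Normal := normal_subgroupOf_iff_le_normalizer le_sup_left
        |>.2 hKn
      have hvK : v ∈ K := mem_sup_right (mem_zpowers v)
      have hord : orderOf (QuotientGroup.mk' ((R ⊓ C).subgroupOf K) ⟨v, hvK⟩) = 2 := by
        refine orderOf_eq_prime ?_ ?_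
        · rw [← map_pow]
          refine (QuotientGroup.eq_one_iff _).2 ?_
          rw [mem_subgroupOf, coe_pow, pow_two, hv]
          exact one_mem _
        · intro e
          exact hvR ((QuotientGroup.eq_one_iff _).1 e).1
      rw [relIndex, index]
      rw [← hord]
      exact orderOf_dvd_natCard _
    rw [← relIndex_mul_card' hlt.le, show (16 : ℕ) = 2 * 8 by norm_num]
    exact Nat.mul_dvd_mul h2 h8
  have hge : Nat.card ↥(R ⊓ C) ≤ Nat.card f.range := by
    by_contra hh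
    have h1 : Nat.card ↥(R ⊓ C) * Nat.card f.range < 4 * 4 :=
      Nat.mul_lt_mul_of_le_of_lt hle (lt_of_lt_of_le (not_le.1 hh) hle) (by norm_num)
    omega
  have heq : f.range = R ⊓ C := eq_of_le_of_card_ge hfR hge
  obtain ⟨r, hr⟩ : x ∈ f.range := heq ▸ ⟨hx, hmemC rfl hvx.symm⟩
  refine isConj_iff.2 ⟨r, ?_⟩
  have hr' : (r : G) * (v * r * v) = x := hr
  rw [hri _ r.2, hvx, ← hr']
  simp only [mul_assoc, hv, mul_one]

variable {G : Type u} [Group G] {S : Setup G} (h : Frame S)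
include h

theorem cent_conj_le {a k : G} (ha : centralizer ({a} : Set G) ≤ normalizer (S.N : Set G))
    (hk : k ∈ normalizer (S.N : Set G)) :
    centralizer ({k * a * k⁻¹} : Set G) ≤ normalizer (S.N : Set G) := by
  intro x hx
  have h1 : k⁻¹ * x * k ∈ centralizer ({a} : Set G) := by
    rw [mem_centralizer_singleton_iff] at hx ⊢
    calc k⁻¹ * x * k * a = k⁻¹ * (x * (k * a * k⁻¹)) * k := by group
      _ = k⁻¹ * (k * a * k⁻¹ * x) * k := by rw [hx]
      _ = a * (k⁻¹ * x * k) := by group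
  have := mul_mem (mul_mem hk (ha h1)) (inv_mem hk)
  rwa [show k * (k⁻¹ * x * k) * k⁻¹ = x by group] at this

theorem yel_eq : S.ψ zF * S.ψ dF = pa S δ * pb S δ := by
  rw [z_eq, d_eq, ← pa_pb h sign_basic.2.1 sign_basic.2.1]

theorem card_cent_yel : Nat.card (centralizer ({pa S δ * pb S δ} : Set G)) = 36 := by
  rw [← yel_eq h]; exact S.card_y

theorem rep_sq (i j : Fin 2) : rep S i j * rep S i j = 1 := by
  have hc : Commute (S.ψ tF ^ i.val) (S.g ^ j.val) :=
    ((show Commute (S.ψ tF) S.g from (g_t_comm S).symm).pow_pow _ _)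
  show S.ψ tF ^ i.val * S.g ^ j.val * (S.ψ tF ^ i.val * S.g ^ j.val) = 1
  rw [hc.symm.mul_mul_mul_comm, ← (Commute.refl (S.ψ tF)).mul_pow, ← (Commute.refl S.g).mul_pow,
    t_sq, h.gg, one_pow, one_pow, mul_one]

theorem rep_comm (i j i' j' : Fin 2) : Commute (rep S i j) (rep S i' j') := by
  have hc : Commute (S.ψ tF) S.g := (g_t_comm S).symm
  exact ((((Commute.refl _).pow_pow _ _).mul_right (hc.pow_pow _ _)).mul_left
    (((hc.symm).pow_pow _ _).mul_right ((Commute.refl _).pow_pow _ _)))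

theorem conj_coset {m : G} (hm : m ∈ normalizer (S.N : Set G)) (i j : Fin 2) :
    ∃ n ∈ S.N, m * rep S i j * m⁻¹ = n * rep S i j := by
  obtain ⟨n, hn, p, q, rfl⟩ := mem_NN h hm
  refine ⟨n * (rep S i j * n⁻¹ * (rep S i j)⁻¹),
    mul_mem hn ((mem_normalizer_iff.1 (rep_mem h i j) _).1 (inv_mem hn)), ?_⟩
  calc n * rep S p q * rep S i j * (n * rep S p q)⁻¹
      = n * (rep S p q * rep S i j) * (rep S p q)⁻¹ * n⁻¹ := by group
    _ = _ := by rw [(rep_comm h p q i j).eq]; group

theorem sq_mem {m : G} (hm : m ∈ normalizer (S.N : Set G)) : m * m ∈ S.N := by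
  obtain ⟨n, hn, p, q, rfl⟩ := mem_NN h hm
  have : n * rep S p q * (n * rep S p q) =
      n * (rep S p q * n * (rep S p q)⁻¹) * (rep S p q * rep S p q) := by group
  rw [this, rep_sq h, mul_one]
  exact mul_mem hn ((mem_normalizer_iff.1 (rep_mem h p q) _).1 hn)

/-- The diagonal element commutes with the representatives. -/
theorem yel_comm (i j : Fin 2) :
    rep S i j * (pa S δ * pb S δ) = pa S δ * pb S δ * rep S i j := by
  obtain ⟨-, -, -, ht, -⟩ := five_facts
  have e1 : S.ψ tF * (pa S δ * pb S δ) * S.ψ tF = pa S δ * pb S δ := by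
    simpa [rep, ht] using t_form h δ δ 0 0
  have e2 : S.g * (pa S δ * pb S δ) * S.g = pa S δ * pb S δ := by
    simpa [rep] using g_form h sign_basic.2.1 sign_basic.2.1 0 0
  have c1 : Commute (S.ψ tF) (pa S δ * pb S δ) := by
    show _ = _
    nth_rewrite 2 [← e1]
    rw [mul_assoc _ _ (S.ψ tF), t_sq, mul_one]
  have c2 : Commute S.g (pa S δ * pb S δ) := by
    show _ = _
    nth_rewrite 2 [← e2]
    rw [mul_assoc _ _ S.g, h.gg, mul_one]
  exact ((c1.pow_left _).mul_left (c2.pow_left _)).eq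

/-- Elements inverting or centralising the diagonal element normalise the product. -/
theorem mem_of_conj_yel {k : G}
    (hk : k * (pa S δ * pb S δ) * k⁻¹ = pa S δ * pb S δ ∨
      k * (pa S δ * pb S δ) * k⁻¹ = (pa S δ * pb S δ)⁻¹) :
    k ∈ normalizer (S.N : Set G) := by
  obtain ⟨sυ, sδ, -, -⟩ := sign_basic
  have hy := yel_eq h
  have hC : ∀ x : G, x * (pa S δ * pb S δ) * x⁻¹ = pa S δ * pb S δ →
      x ∈ normalizer (S.N : Set G) := fun x hx => h.cent_y (by
    rw [hy, mem_centralizer_singleton_iff]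
    exact mul_inv_eq_iff_eq_mul.1 hx)
  rcases hk with hk | hk
  · exact hC k hk
  have hq : pa S υ * pb S υ ∈ normalizer (S.N : Set G) := le_normalizer (form_mem h sυ sυ)
  have e : pa S υ * pb S υ * (pa S δ * pb S δ) * (pa S υ * pb S υ)⁻¹ = (pa S δ * pb S δ)⁻¹ := by
    have hυi : υ⁻¹ = υ := inv_eq_of_mul_eq_one_right five_facts.2.1
    rw [mul_forms h sυ sδ, inv_form h sυ sυ, mul_forms h (by simp [sυ, sδ]) (by simp [sυ]),
      inv_form h sδ sδ, hυi, five_facts.2.2.2.2.1]
  have := hC ((pa S υ * pb S υ)⁻¹ * k) (by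
    calc (pa S υ * pb S υ)⁻¹ * k * (pa S δ * pb S δ) * ((pa S υ * pb S υ)⁻¹ * k)⁻¹
        = (pa S υ * pb S υ)⁻¹ * (k * (pa S δ * pb S δ) * k⁻¹) * (pa S υ * pb S υ) := by group
      _ = pa S δ * pb S δ := by rw [hk, ← e]; group)
  have := mul_mem hq this
  rwa [mul_inv_cancel_left] at this

/-- An element centralised by an image of `Sym 5` is not conjugate to the diagonal element. -/
theorem not_small [Finite G] {x : G}
    (hx : (∀ c, pa S c * x = x * pa S c) ∨ (∀ c, pb S c * x = x * pb S c)) :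
    ¬ IsConj (pa S δ * pb S δ) x := by
  intro hc
  obtain ⟨k, hk⟩ := isConj_iff.1 hc
  have h36 : Nat.card (centralizer ({x} : Set G)) = 36 := by
    rw [← hk, card_cent_conj, card_cent_yel h]
  have key : ∀ f : P5 →* G, Function.Injective f → (∀ c, f c * x = x * f c) → False :=
      fun f hf hfx => by
    have := Nat.card_le_card_of_injective
      (fun c : P5 => (⟨f c, mem_centralizer_singleton_iff.2 (hfx c)⟩ : centralizer ({x} : Set G)))
      (fun a b e => hf (congrArg Subtype.val e))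
    rw [h36, Nat.card_perm, Nat.card_eq_fintype_card, Fintype.card_fin] at this
    norm_num [Nat.factorial] at this
  rcases hx with hx | hx
  · exact key _ (pa_inj S) hx
  · exact key _ (pb_inj S) hx

omit h in
theorem pa_comm_pb_delta (c : P5) (n : ℕ) :
    pa S c * pb S δ ^ n = pb S δ ^ n * pa S c := by
  refine (Commute.pow_right ?_ n).eq
  show pa S c * pb S δ = pb S δ * pa S c
  rw [← z_eq]
  exact S.map_comm (Prod.ext (by show (1 : Perm (Fin 3)) * _ = _ * 1; rw [one_mul, mul_one])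
    (by show c * 1 = 1 * c; rw [one_mul, mul_one]))

omit h in
theorem pb_comm_pa_delta (c : P5) (n : ℕ) :
    pb S c * pa S δ ^ n = pa S δ ^ n * pb S c := by
  refine (Commute.pow_right ?_ n).eq
  show pb S c * pa S δ = pa S δ * pb S c
  rw [← d_eq, ← S.φ_zF]
  exact S.φ_map_comm (Prod.ext (by show (1 : Perm (Fin 3)) * _ = _ * 1; rw [one_mul, mul_one])
    (by show c * 1 = 1 * c; rw [one_mul, mul_one]))

omit h in
theorem nine_le_cent_t : S.D ≤ centralizer ({S.ψ tF} : Set G) := by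
  refine (closure_le _).2 ?_
  rintro _ (rfl | rfl) <;> rw [SetLike.mem_coe, mem_centralizer_singleton_iff]
  · exact S.map_comm facts_comm.2.1
  · exact S.map_comm facts_comm.2.2.1

/-- A conjugate of the diagonal element commuting with `t` is moved by `C(t)` to the element or
its inverse. -/
theorem to_yel [Finite G] {y : G} (hy : IsConj (pa S δ * pb S δ) y)
    (hyt : y * S.ψ tF = S.ψ tF * y) :
    ∃ k : G, k * S.ψ tF * k⁻¹ = S.ψ tF ∧
      (k * y * k⁻¹ = pa S δ * pb S δ ∨ k * y * k⁻¹ = (pa S δ * pb S δ)⁻¹) := by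
  haveI : Fact (Nat.Prime 3) := ⟨Nat.prime_three⟩
  obtain ⟨sυ, sδ, -, -⟩ := sign_basic
  obtain ⟨-, -, -, hδt, -, -, -, -, hδ3, -⟩ := five_facts
  set H := centralizer ({S.ψ tF} : Set G) with hH
  have hDH : S.D ≤ H := nine_le_cent_t
  have hD3 : IsPGroup 3 S.D := IsPGroup.of_card (n := 2) (by rw [S.card_D]; norm_num)
  have hmax : ¬ 3 ∣ S.D.relIndex H := fun hd => S.not_dvd (by
    refine dvd_trans ?_ (card_subgroup_dvd_card H)
    rw [← relIndex_mul_card' hDH, S.card_D, show (27 : ℕ) = 3 * 9 by norm_num]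
    exact Nat.mul_dvd_mul hd dvd_rfl)
  have hy3 : y ^ 3 = 1 := by
    obtain ⟨k, hk⟩ := isConj_iff.1 hy
    have hy3' : (pa S δ * pb S δ) ^ 3 = 1 := by
      rw [(show Commute (pa S δ) (pb S δ) from pa_pb h sδ sδ).mul_pow, ← map_pow, ← map_pow, hδ3,
        map_one, map_one, mul_one]
    rw [← hk, conj_pow, hy3', mul_one, mul_inv_cancel]
  have hV : IsPGroup 3 (zpowers y) := by
    rintro ⟨z, hz⟩
    obtain ⟨m, rfl⟩ := mem_zpowers_iff.1 hz
    refine ⟨1, Subtype.ext ?_⟩
    show (y ^ m) ^ (3 ^ 1) = 1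
    rw [pow_one, ← zpow_natCast, ← zpow_mul, mul_comm, zpow_mul, zpow_natCast, hy3, one_zpow]
  obtain ⟨k, hkH, hk⟩ := Transfer.exists_conj_le_of_isPGroup hD3 hDH hmax hV
    (zpowers_le.2 (mem_centralizer_singleton_iff.2 hyt))
  obtain ⟨i, j, hij⟩ := S.mem_D_iff.1 (hk y (mem_zpowers y))
  have hx : k⁻¹ * y * k = pb S δ ^ i.val * pa S δ ^ j.val := by
    rw [hij, map_mul, map_pow, map_pow, z_eq, d_eq]
  have hconj : IsConj (pa S δ * pb S δ) (pb S δ ^ i.val * pa S δ ^ j.val) := by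
    rw [← hx]
    exact hy.trans (isConj_iff.2 ⟨k⁻¹, by rw [inv_inv]⟩)
  have hi : i ≠ 0 := fun e => not_small h (Or.inr fun c => by
    rw [e]; simpa using pb_comm_pa_delta c j.val) hconj
  have hj : j ≠ 0 := fun e => not_small h (Or.inl fun c => by
    rw [e]; simpa using pa_comm_pb_delta c i.val) hconj
  obtain ⟨e, he⟩ := diag_adjust i j hi hj
  have hkt : k⁻¹ * S.ψ tF * k = S.ψ tF := by
    rw [mul_assoc, ← mem_centralizer_singleton_iff.1 hkH, inv_mul_cancel_left]
  have hct : Commute (pb S υ) (S.ψ tF) := by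
    have e1 : S.ψ tF * pb S υ * S.ψ tF = pb S υ := by rw [t_pb, five_facts.2.2.1]
    show _ = _
    nth_rewrite 1 [← e1]
    rw [mul_assoc, t_sq, mul_one]
  refine ⟨pb S υ ^ e.val * k⁻¹, ?_, ?_⟩
  · calc pb S υ ^ e.val * k⁻¹ * S.ψ tF * (pb S υ ^ e.val * k⁻¹)⁻¹
        = pb S υ ^ e.val * (k⁻¹ * S.ψ tF * k) * (pb S υ ^ e.val)⁻¹ := by group
      _ = S.ψ tF := by rw [hkt, (hct.pow_left _).eq, mul_inv_cancel_right]
  have e2 : pb S υ ^ e.val * k⁻¹ * y * (pb S υ ^ e.val * k⁻¹)⁻¹ =
      pa S (δ ^ j.val) * pb S (υ ^ e.val * δ ^ i.val * (υ ^ e.val)⁻¹) := by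
    have sj : Perm.sign (δ ^ j.val) = 1 := by simp [sδ]
    have se : Perm.sign (υ ^ e.val) = 1 := by simp [sυ]
    calc pb S υ ^ e.val * k⁻¹ * y * (pb S υ ^ e.val * k⁻¹)⁻¹
        = pb S υ ^ e.val * (k⁻¹ * y * k) * (pb S υ ^ e.val)⁻¹ := by group
      _ = pb S (υ ^ e.val * δ ^ i.val) * (pa S (δ ^ j.val) * pb S (υ ^ e.val)⁻¹) := by
          rw [hx, map_mul, map_pow, map_pow, map_pow, map_inv, map_pow]
          simp only [mul_assoc]
      _ = _ := by
          rw [← mul_assoc, ← pa_pb h sj (by simp [sυ, sδ]), mul_assoc, ← map_mul]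
  rw [e2]
  rcases he with ⟨he1, he2⟩ | ⟨he1, he2⟩ <;> rw [he1, he2]
  · exact Or.inl rfl
  · exact Or.inr (inv_form h sδ sδ).symm

/-- The transposition class is not fused to the swapping classes. -/
theorem t_not_swap [Finite G] {i j : Fin 2} (hj : j = 1) : ¬ IsConj (rep S i j) (S.ψ tF) := by
  intro hc
  obtain ⟨k, hk⟩ := isConj_iff.1 hc
  set Y := pa S δ * pb S δ with hY
  have hyt : k * Y * k⁻¹ * S.ψ tF = S.ψ tF * (k * Y * k⁻¹) := by
    rw [← hk]
    calc k * Y * k⁻¹ * (k * rep S i j * k⁻¹) = k * (Y * rep S i j) * k⁻¹ := by group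
      _ = k * (rep S i j * Y) * k⁻¹ := by rw [yel_comm h]
      _ = k * rep S i j * k⁻¹ * (k * Y * k⁻¹) := by group
  obtain ⟨m, hm, hmy⟩ := to_yel h (isConj_iff.2 ⟨k, rfl⟩) hyt
  have hmem : m * k ∈ normalizer (S.N : Set G) := by
    refine mem_of_conj_yel h ?_
    rw [show m * k * Y * (m * k)⁻¹ = m * (k * Y * k⁻¹) * m⁻¹ by group]
    exact hmy
  have e : m * k * rep S i j * (m * k)⁻¹ = S.ψ tF := by
    rw [show m * k * rep S i j * (m * k)⁻¹ = m * (k * rep S i j * k⁻¹) * m⁻¹ by group, hk, hm]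
  obtain ⟨n, hn, hn'⟩ := conj_coset h hmem i j
  have e' : n * rep S i j = 1 * rep S 1 0 := by
    rw [← hn', e]; simp [rep]
  have := (coset_inj h hn (one_mem _) e').2.2
  rw [hj] at this
  exact absurd this (by decide)

/-- The class of a double transposition in a factor contains no outer involution. -/
theorem rep_not_a [Finite G] (i j : Fin 2) (hij : ¬ (i = 0 ∧ j = 0)) :
    ¬ IsConj (rep S i j) (pa S α₀) := by
  intro hc
  obtain ⟨k, hk⟩ := isConj_iff.1 hc
  obtain ⟨-, sδ, sα, -⟩ := sign_basic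
  set Y := pa S δ * pb S δ with hY
  have hyc : k * Y * k⁻¹ * pa S α₀ = pa S α₀ * (k * Y * k⁻¹) := by
    rw [← hk]
    calc k * Y * k⁻¹ * (k * rep S i j * k⁻¹) = k * (Y * rep S i j) * k⁻¹ := by group
      _ = k * (rep S i j * Y) * k⁻¹ := by rw [yel_comm h]
      _ = k * rep S i j * k⁻¹ * (k * Y * k⁻¹) := by group
  have hy3 : (k * Y * k⁻¹) ^ 3 = 1 := by
    rw [conj_pow, hY, (show Commute (pa S δ) (pb S δ) from pa_pb h sδ sδ).mul_pow, ← map_pow,
      ← map_pow, five_facts.2.2.2.2.2.2.2.2.1, map_one, map_one, mul_one, mul_one, mul_inv_cancel]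
  have hyNN : k * Y * k⁻¹ ∈ normalizer (S.N : Set G) := h.cent_a (by
    rw [a_eq, mem_centralizer_singleton_iff]; exact hyc)
  have hyN : k * Y * k⁻¹ ∈ S.N := by
    have e : k * Y * k⁻¹ = (k * Y * k⁻¹ * (k * Y * k⁻¹)) * (k * Y * k⁻¹ * (k * Y * k⁻¹)) := by
      have e' : k * Y * k⁻¹ = (k * Y * k⁻¹) ^ 3 * (k * Y * k⁻¹) := by rw [hy3, one_mul]
      conv_lhs => rw [e', pow_succ, pow_two]
      simp only [mul_assoc]
    rw [e]
    exact mul_mem (sq_mem h hyNN) (sq_mem h hyNN)
  obtain ⟨a, b, ha, hb, he⟩ := mem_N h hyN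
  rw [he] at hyc hy3
  have h1 : pa S (a * α₀) * pb S (b * 1) = pa S (α₀ * a) * pb S (1 * b) := by
    rw [← mul_forms h hb sα, ← mul_forms h (by simp) ha, map_one, mul_one]
    exact hyc
  have e1 := (form_inj h (by simp [ha, sα]) (by simp [hb]) (by simp [ha, sα]) (by simp [hb]) h1).1
  rw [(show Commute (pa S a) (pb S b) from pa_pb h ha hb).mul_pow, ← map_pow, ← map_pow] at hy3
  obtain ⟨ha3, hb3⟩ := form_inj h (a' := 1) (b' := 1) (by simp [ha]) (by simp [hb]) (by simp)
    (by simp) (hy3.trans (by rw [map_one, map_one, one_mul]))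
  have ha1 : a = 1 := three_cases a ha3 e1
  have hY' : IsConj Y (pb S b) := isConj_iff.2 ⟨k, by rw [he, ha1, map_one, one_mul]⟩
  by_cases hb1 : b = 1
  · rw [hb1, map_one] at hY'
    exact not_small h (x := 1) (Or.inl fun c => by simp) hY'
  obtain ⟨c, -, hc'⟩ := three_conj b hb3 hb1
  exact not_small h (x := pb S δ) (Or.inl fun c => by simpa using pa_comm_pb_delta (S := S) c 1)
    (hY'.trans (isConj_pb hc'))

theorem outer_not_a [Finite G] {x : G} (hx : x ∈ normalizer (S.N : Set G)) (hxN : x ∉ S.N)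
    (hx2 : x * x = 1) : ¬ IsConj x (pa S α₀) := fun hc => by
  rcases outer_cases h hx hxN hx2 with e | e | e
  · exact rep_not_a h 1 0 (by decide) (by simpa [rep] using e.trans hc)
  · exact rep_not_a h 0 1 (by decide) (by simpa [rep] using e.trans hc)
  · exact rep_not_a h 1 1 (by decide) (by simpa [rep] using e.trans hc)

theorem form_not_mem [Finite G] {a b : P5} (ha : Perm.sign a = 1) (hb : Perm.sign b = 1)
    {i j : Fin 2} (hij : ¬ (i = 0 ∧ j = 0)) : pa S a * pb S b * rep S i j ∉ S.N := fun hm => by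
  have h0 : rep S 0 0 = 1 := by simp [rep]
  obtain ⟨-, e1, e2⟩ := coset_inj h (form_mem h ha hb) hm
    (i := i) (j := j) (i' := 0) (j' := 0) (by rw [h0, mul_one])
  exact hij ⟨e1, e2⟩

theorem pb_conj_a {a : P5} (ha : Perm.sign a = 1) (h2 : a * a = 1) (h1 : a ≠ 1) :
    IsConj (pb S a) (pa S α₀) ∧ IsConj (pa S a) (pa S α₀) := by
  obtain ⟨c, -, hc⟩ := invol_conj a ha h2 h1
  exact ⟨(isConj_swap h a).trans (isConj_pa hc), isConj_pa hc⟩

theorem cent_pb_le {a : P5} (ha : Perm.sign a = 1) (h2 : a * a = 1) (h1 : a ≠ 1) :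
    centralizer ({pb S a} : Set G) ≤ normalizer (S.N : Set G) := by
  obtain ⟨c, hc, hc'⟩ := invol_conj a ha h2 h1
  have hg : S.g * (pa S c)⁻¹ ∈ normalizer (S.N : Set G) := by
    refine mul_mem ?_ (inv_mem (le_normalizer (h.memN.2 ⟨_, pa_mem S hc, 1, one_mem _, (mul_one _).symm⟩)))
    simpa [rep] using rep_mem h 0 1
  have e : S.g * (pa S c)⁻¹ * pa S α₀ * (S.g * (pa S c)⁻¹)⁻¹ = pb S a := by
    rw [← hc', map_mul, map_mul, map_inv, ← g_pa h a, mul_inv_rev, inv_inv, gi h]
    group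
  rw [← e]
  exact cent_conj_le h (by rw [← a_eq]; exact h.cent_a) hg

theorem card_cent_pair_aux [Finite G] {C : Subgroup G} (T : Finset (P5 × P5 × Fin 2 × Fin 2))
    (hT : T.card = 24)
    (hC : ∀ x ∈ C, ∃ p ∈ T, x = pa S p.1 * pb S p.2.1 * rep S p.2.2.1 p.2.2.2)
    (h3 : 3 ∣ Nat.card C) : ¬ 16 ∣ Nat.card C := by
  intro h16
  have hle : Nat.card C ≤ 24 := by
    choose f hf hf' using hC
    refine (Nat.card_le_card_of_injective (fun x : C => (⟨f x.1 x.2, hf x.1 x.2⟩ : T))
      fun x y e => Subtype.ext ?_).trans_eq (by rw [Nat.card_eq_fintype_card, Fintype.card_coe, hT])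
    have e' : f x.1 x.2 = f y.1 y.2 := congrArg Subtype.val e
    rw [hf' x.1 x.2, hf' y.1 y.2, e']
  have h48 : 48 ∣ Nat.card C := Nat.Coprime.mul_dvd_of_dvd_of_dvd (by norm_num) h16 h3
  have := Nat.le_of_dvd Nat.card_pos h48
  omega

/-- The common centraliser of `t` and an involution of the second factor. -/
theorem card_cent_t_e [Finite G] :
    ¬ 16 ∣ Nat.card (centralizer ({S.ψ tF, pb S υ} : Set G)) := by
  obtain ⟨sυ, sδ, -, -⟩ := sign_basic
  obtain ⟨-, hυ2, htυ, htδ, -, -, hυ1, hδ1, hδ3, -⟩ := five_facts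
  have hA : (Finset.univ.filter fun a : P5 => Perm.sign a = 1 ∧ τ * a * τ = a).card = 6 := by
    decide +kernel
  have hB : (Finset.univ.filter fun b : P5 =>
      Perm.sign b = 1 ∧ τ * b * τ = b ∧ b * υ = υ * b).card = 2 := by
    decide +kernel
  refine card_cent_pair_aux h
    ((Finset.univ.filter fun a : P5 => Perm.sign a = 1 ∧ τ * a * τ = a) ×ˢ
      ((Finset.univ.filter fun b : P5 => Perm.sign b = 1 ∧ τ * b * τ = b ∧ b * υ = υ * b) ×ˢ
        ((Finset.univ : Finset (Fin 2)) ×ˢ ({0} : Finset (Fin 2)))))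
    (by rw [Finset.card_product, Finset.card_product, Finset.card_product, hA, hB]; rfl)
    (fun x hx => ?_) ?_
  · have hxt : x * S.ψ tF = S.ψ tF * x := (mem_centralizer_iff.1 hx _ (Or.inl rfl)).symm
    have hxe : x * pb S υ = pb S υ * x := (mem_centralizer_iff.1 hx _ (Or.inr rfl)).symm
    obtain ⟨a, b, i, j, ha, hb, rfl⟩ := mem_NN' h (cent_pb_le h sυ hυ2 hυ1
      (mem_centralizer_singleton_iff.2 hxe))
    refine ⟨(a, b, i, j), ?_, rfl⟩
    simp only [Finset.mem_product, Finset.mem_filter, Finset.mem_univ, true_and,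
      Finset.mem_singleton]
    suffices Perm.sign a = 1 ∧ τ * a * τ = a ∧ Perm.sign b = 1 ∧ τ * b * τ = b ∧
        b * υ = υ * b ∧ j = 0 by
      obtain ⟨p1, p2, p3, p4, p5, p6⟩ := this
      exact ⟨⟨p1, p2⟩, ⟨p3, p4, p5⟩, p6⟩
    have ht := t_form h a b i j
    rw [← hxt, mul_assoc, t_sq, mul_one] at ht
    obtain ⟨ea, eb, -, -⟩ := uniq h ha hb (sign_tau_conj a ha) (sign_tau_conj b hb) ht
    refine ⟨ha, ea.symm, hb, eb.symm, ?_⟩
    have hre : rep S i j * pb S υ * rep S i j = if j = 0 then pb S υ else pa S υ := by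
      fin_cases i <;> fin_cases j <;> simp [rep]
      · exact g_pb h υ
      · rw [t_pb, htυ]
      · calc S.ψ tF * S.g * pb S υ * (S.ψ tF * S.g) = S.ψ tF * (S.g * pb S υ * S.g) * S.ψ tF := by
              nth_rewrite 2 [← g_t_comm]; simp only [mul_assoc]
          _ = pa S υ := by rw [g_pb h, t_pa, htυ]
    have hr2 := rep_sq h i j
    have e : pa S a * pb S b * (rep S i j * pb S υ * rep S i j) * rep S i j =
        pb S υ * (pa S a * pb S b * rep S i j) := by
      rw [← hxe]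
      simp only [mul_assoc, hr2, mul_one]
    rw [hre] at e
    by_cases hj : j = 0
    · rw [if_pos hj] at e
      have e' : pa S a * pb S (b * υ) * rep S i j = pa S a * pb S (υ * b) * rep S i j := by
        have hl : pa S a * pb S b * pb S υ = pa S a * pb S (b * υ) := by rw [map_mul, mul_assoc]
        have hr : pb S υ * (pa S a * pb S b * rep S i j) = pa S a * pb S (υ * b) * rep S i j := by
          rw [map_mul, ← mul_assoc, ← mul_assoc, ← pa_pb h ha sυ]
          simp only [mul_assoc]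
        rw [← hl, e, hr]
      exact ⟨(uniq h ha (by simp [hb, sυ]) ha (by simp [hb, sυ]) e').2.1, hj⟩
    · exfalso
      rw [if_neg hj] at e
      have e' : pa S (a * υ) * pb S (b * 1) * rep S i j = pa S (1 * a) * pb S (υ * b) * rep S i j := by
        rw [← mul_forms h hb sυ, ← mul_forms h sυ ha, map_one, map_one, mul_one, one_mul, e,
          mul_assoc (pb S υ)]
      have := (uniq h (by simp [ha, sυ]) (by simp [hb]) (by simp [ha]) (by simp [hb, sυ]) e').1
      rw [one_mul, mul_eq_left] at this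
      exact hυ1 this
  · have hmem : pa S δ ∈ centralizer ({S.ψ tF, pb S υ} : Set G) := by
      rw [mem_centralizer_iff]
      rintro y (rfl | rfl)
      · calc S.ψ tF * pa S δ = S.ψ tF * pa S δ * (S.ψ tF * S.ψ tF) := by rw [t_sq, mul_one]
          _ = pa S δ * S.ψ tF := by rw [← mul_assoc, t_pa, htδ]
      · exact (pa_pb h sδ sυ).symm
    have ho : orderOf (⟨pa S δ, hmem⟩ : centralizer ({S.ψ tF, pb S υ} : Set G)) = 3 := by
      haveI : Fact (Nat.Prime 3) := ⟨Nat.prime_three⟩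
      refine orderOf_eq_prime (Subtype.ext ?_) (fun e => hδ1 (pa_inj S ?_))
      · show pa S δ ^ 3 = 1
        rw [← map_pow, hδ3, map_one]
      · rw [map_one]; exact congrArg Subtype.val e
    have hd := orderOf_dvd_natCard (⟨pa S δ, hmem⟩ : centralizer ({S.ψ tF, pb S υ} : Set G))
    rwa [ho] at hd

theorem mem_W' (k l : Fin 4) : pa S (four k) * pb S (four l) ∈ S.W := by
  obtain ⟨f0, f1, f2, fa, -, -⟩ := four_facts
  obtain ⟨f3, -⟩ := four_three
  have hA : pa S (four 1) ∈ S.V := by rw [f1]; exact subset_closure (Or.inl rfl)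
  have hB : pa S (four 2) ∈ S.V := by rw [f2]; exact subset_closure (Or.inr rfl)
  have hA' : pb S (four 1) ∈ S.V' := by rw [f1]; exact subset_closure (Or.inl rfl)
  have hB' : pb S (four 2) ∈ S.V' := by rw [f2]; exact subset_closure (Or.inr rfl)
  have hf : ∀ k : Fin 4, pa S (four k) ∈ S.V ∧ pb S (four k) ∈ S.V' := fun k => by
    fin_cases k
    · simp [f0, one_mem]
    · exact ⟨hA, hA'⟩
    · exact ⟨hB, hB'⟩
    · show pa S (four 3) ∈ S.V ∧ pb S (four 3) ∈ S.V'
      rw [f3, Prod.snd_mul, map_mul, map_mul, fa, ← f1, ← f2]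
      exact ⟨mul_mem hA hB, mul_mem hA' hB'⟩
  exact mul_mem (mem_sup_left (hf k).1) (mem_sup_right (hf l).2)

theorem card_W_aux [Finite G] : Nat.card S.W = 16 ∧ ∀ r ∈ S.W, r * r = 1 := by
  obtain ⟨-, finj⟩ := four_three
  obtain ⟨-, -, -, fs⟩ := sign_basic
  let f : Fin 4 × Fin 4 → S.W := fun p => ⟨pa S (four p.1) * pb S (four p.2), mem_W' h p.1 p.2⟩
  have hbij : Function.Bijective f := by
    refine ⟨fun p q e => ?_, fun x => ?_⟩
    · obtain ⟨e1, e2⟩ := form_inj h (fs _) (fs _) (fs _) (fs _) (congrArg Subtype.val e)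
      exact Prod.ext (finj _ _ e1) (finj _ _ e2)
    · obtain ⟨i, j, e⟩ := mem_W h x.2
      exact ⟨(i, j), Subtype.ext e.symm⟩
  refine ⟨by rw [← Nat.card_eq_of_bijective f hbij]; simp, fun r hr => ?_⟩
  obtain ⟨i, j, rfl⟩ := mem_W h hr
  have hsq : ∀ k : Fin 4, four k * four k = 1 := by decide +kernel
  rw [mul_forms h (fs j) (fs i), hsq, hsq, map_one, map_one, mul_one]

/-- An involution commuting with a conjugate of the central involution of a Sylow subgroup is
conjugate to their product, when their common centraliser is small. -/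
theorem c_fuse [Finite G] {x v : G} (hxc : IsConj x (pa S α₀ * pb S α₀)) (hv : v * v = 1)
    (hvx : v * x = x * v) (h16 : ¬ 16 ∣ Nat.card (centralizer ({x, v} : Set G))) :
    IsConj v (v * x) := by
  haveI : Fact (Nat.Prime 2) := ⟨Nat.prime_two⟩
  obtain ⟨sυ, -, sα, fs⟩ := sign_basic
  obtain ⟨hτ, hυ2, htυ, -⟩ := five_facts
  obtain ⟨hστ, hsσ, hσf⟩ := sigma_facts
  obtain ⟨hW16, hWsq⟩ := card_W_aux h
  obtain ⟨-, f1, -⟩ := four_facts
  set c := pa S α₀ * pb S α₀ with hc
  set s := S.ψ (eF * fF) with hs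
  have hs1 : s = pb S υ * pa S (swap 2 3) := by rw [hs, map_mul, e_eq h]; rfl
  have hphi : s = S.φ (eF * fF) := by
    rw [hs, map_mul S.φ, S.φ_apply, S.φ_apply, h.isWr.1, h.isWr.2, ← map_mul, s_frame.1]
  have hs2 : s = pa S υ * pb S (swap 2 3) := by
    rw [hphi, map_mul]
    congr 1
    rw [← g_pb h υ, ← e_eq h, S.φ_apply, gi h]
  have hss : s * s = 1 := by rw [hs, ← map_mul, s_frame.2, map_one]
  have hsg : S.g * s = s * S.g := by
    have : S.g * s * S.g⁻¹ = s := by nth_rewrite 2 [hphi]; rfl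
    calc S.g * s = S.g * s * S.g⁻¹ * S.g := by group
      _ = s * S.g := by rw [this]
  have hsW : ∀ r ∈ S.W, s * r * s⁻¹ ∈ S.W := fun r hr => by
    obtain ⟨i, j, rfl⟩ := mem_W h hr
    obtain ⟨i', hi⟩ := hσf i
    obtain ⟨j', hj⟩ := hσf j
    have hσi : (swap 2 3 : P5)⁻¹ = swap 2 3 := swap_inv 2 3
    have e1 : s * pa S (four i) * s⁻¹ = pa S (four i') := by
      rw [hs1]
      calc pb S υ * pa S (swap 2 3) * pa S (four i) * (pb S υ * pa S (swap 2 3))⁻¹
          = pb S υ * (pa S (swap 2 3 * four i * swap 2 3)) * (pb S υ)⁻¹ := by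
            rw [map_mul, map_mul, mul_inv_rev, ← map_inv (pa S) (swap 2 3), hσi]
            simp only [mul_assoc]
        _ = _ := by rw [hi, ← pa_pb h (fs i') sυ, mul_inv_cancel_right]
    have e2 : s * pb S (four j) * s⁻¹ = pb S (four j') := by
      rw [hs2]
      calc pa S υ * pb S (swap 2 3) * pb S (four j) * (pa S υ * pb S (swap 2 3))⁻¹
          = pa S υ * (pb S (swap 2 3 * four j * swap 2 3)) * (pa S υ)⁻¹ := by
            rw [map_mul, map_mul, mul_inv_rev, ← map_inv (pb S) (swap 2 3), hσi]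
            simp only [mul_assoc]
        _ = _ := by rw [hj, pa_pb h sυ (fs j'), mul_inv_cancel_right]
    rw [show s * (pa S (four i) * pb S (four j)) * s⁻¹ =
      s * pa S (four i) * s⁻¹ * (s * pb S (four j) * s⁻¹) by group, e1, e2]
    exact mem_W' h i' j'
  have hgW : ∀ r ∈ S.W, S.g * r * S.g⁻¹ ∈ S.W := fun r hr => by
    obtain ⟨i, j, rfl⟩ := mem_W h hr
    have := g_form h (fs i) (fs j) 0 0
    simp only [rep, Fin.val_zero, pow_zero, mul_one] at this
    rw [gi h, this]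
    exact mem_W' h j i
  set K := closure ({s, S.g} : Set G) with hK
  have hKmem : ∀ y ∈ K, ∃ i j : Fin 2, y = s ^ i.val * S.g ^ j.val := by
    intro y hy
    have hsg' : Commute s S.g := hsg.symm
    have step : ∀ n : ℕ, s ^ n = s ^ (n % 2) ∧ S.g ^ n = S.g ^ (n % 2) := fun n =>
      ⟨pow_eq_pow_mod n (by rw [pow_two, hss]), pow_eq_pow_mod n (by rw [pow_two, h.gg])⟩
    induction hy using closure_induction with
    | mem z hz =>
      rcases hz with rfl | rfl
      · exact ⟨1, 0, by simp⟩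
      · exact ⟨0, 1, by simp⟩
    | one => exact ⟨0, 0, by simp⟩
    | mul a b _ _ ha hb =>
      obtain ⟨i, j, rfl⟩ := ha
      obtain ⟨i', j', rfl⟩ := hb
      refine ⟨i + i', j + j', ?_⟩
      rw [(hsg'.symm.pow_pow j.val i'.val).mul_mul_mul_comm, ← pow_add, ← pow_add,
        (step _).1, (step _).2, Fin.val_add, Fin.val_add]
    | inv a _ ha =>
      obtain ⟨i, j, rfl⟩ := ha
      refine ⟨i, j, ?_⟩
      rw [mul_inv_rev, ← inv_pow, ← inv_pow, gi h, inv_eq_of_mul_eq_one_right hss]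
      exact ((hsg'.symm).pow_pow _ _).eq
  have hKW : K ⊓ S.W = ⊥ := by
    rw [eq_bot_iff]
    rintro y ⟨hyK, hyW⟩
    rw [mem_bot]
    obtain ⟨i, j, rfl⟩ := hKmem y hyK
    obtain ⟨p, q, e⟩ := mem_W h hyW
    have hs' : s = pa S (swap 2 3 * τ) * pb S υ * rep S 1 0 := by
      have : pa S τ = S.ψ tF := rfl
      rw [hs1, pa_pb h hsσ sυ, mul_assoc]
      congr 1
      rw [show rep S 1 0 = pa S τ from by simp [rep, this], ← map_mul, mul_assoc, hτ, mul_one]
    have hsr : ∀ k : Fin 2, s ^ i.val * S.g ^ k.val =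
        pa S ((swap 2 3 * τ) ^ i.val) * pb S (υ ^ i.val) * rep S i k := by
      intro k
      fin_cases i
      · simp [rep]
      · simp only [Fin.mk_one, Fin.val_one, pow_one]
        rw [hs']
        simp [rep, mul_assoc]
    rw [hsr] at e
    obtain ⟨-, -, ei, ej⟩ := uniq h (a' := four p) (b' := four q) (i' := 0) (j' := 0)
      (by simp [hsσ]) (by simp [sυ]) (fs p) (fs q) (e.trans (by simp [rep]))
    subst ei ej
    simp
  have hKn : K ≤ normalizer (S.W : Set G) := by
    refine (closure_le _).2 ?_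
    rintro _ (rfl | rfl) <;> rw [SetLike.mem_coe, mem_normalizer_iff_map_conj_eq] <;>
      refine eq_of_le_of_card_ge ?_ (le_of_eq (Nat.card_congr
        (S.W.equivMapOfInjective _ (MulAut.conj _).injective).toEquiv))
    · rintro _ ⟨r, hr, rfl⟩; exact hsW r hr
    · rintro _ ⟨r, hr, rfl⟩; exact hgW r hr
  have hK2 : IsPGroup 2 K := by
    rintro ⟨y, hy⟩
    obtain ⟨i, j, rfl⟩ := hKmem y hy
    refine ⟨1, Subtype.ext ?_⟩
    show (s ^ i.val * S.g ^ j.val) ^ (2 ^ 1) = 1
    rw [pow_one, ((show Commute s S.g from hsg.symm).pow_pow _ _).mul_pow, ← pow_mul, ← pow_mul,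
      mul_comm i.val, mul_comm j.val, pow_mul, pow_mul, pow_two, pow_two, hss, h.gg, one_pow,
      one_pow, mul_one]
  have hW2 : IsPGroup 2 S.W := IsPGroup.of_card (n := 4) (by rw [hW16]; norm_num)
  set P := K ⊔ S.W with hP
  have hP2 : IsPGroup 2 P := hK2.to_sup_of_normal_right' hW2 hKn
  have hK4 : 4 ≤ Nat.card K := by
    have hsK : s ∈ K := Subgroup.subset_closure (Or.inl rfl)
    have hgK : S.g ∈ K := Subgroup.subset_closure (Or.inr rfl)
    have hmem : ∀ i j : Fin 2, s ^ i.val * S.g ^ j.val ∈ K := fun i j =>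
      mul_mem (pow_mem hsK _) (pow_mem hgK _)
    refine le_trans (le_of_eq ?_) (Nat.card_le_card_of_injective
      (fun p : Fin 2 × Fin 2 => (⟨_, hmem p.1 p.2⟩ : K)) fun p q e => ?_)
    · simp
    have hs' : ∀ i : Fin 2, s ^ i.val * S.g ^ (0 : ℕ) =
        pa S ((swap 2 3 * τ) ^ i.val) * pb S (υ ^ i.val) * rep S i 0 := by
      intro i
      fin_cases i
      · simp [rep]
      · simp only [Fin.mk_one, Fin.val_one, pow_one, pow_zero, mul_one]
        rw [hs1, pa_pb h hsσ sυ, mul_assoc]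
        congr 1
        rw [show rep S 1 0 = pa S τ from by simp [rep]; rfl, ← map_mul, mul_assoc, hτ, mul_one]
    have key : ∀ i j : Fin 2, s ^ i.val * S.g ^ j.val =
        pa S ((swap 2 3 * τ) ^ i.val) * pb S (υ ^ i.val) * rep S i j := by
      intro i j
      have := hs' i
      rw [pow_zero, mul_one] at this
      rw [this]
      simp [rep, mul_assoc]
    have e' := congrArg Subtype.val e
    simp only at e'
    rw [key, key] at e'
    obtain ⟨-, -, ei, ej⟩ := uniq h (by simp [hsσ]) (by simp [sυ]) (by simp [hsσ]) (by simp [sυ]) e'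
    exact Prod.ext ei ej
  have hP64 : 64 ≤ Nat.card P := by
    have hinj := Nat.card_le_card_of_injective
      (fun p : K × S.W => (⟨(p.1 : G) * p.2, mul_mem (mem_sup_left p.1.2) (mem_sup_right p.2.2)⟩ : P))
      fun p q e => ?_
    · rw [Nat.card_prod, hW16] at hinj
      omega
    have e' : (p.1 : G) * p.2 = q.1 * q.2 := congrArg Subtype.val e
    have hm : (q.1 : G)⁻¹ * p.1 = q.2 * (p.2 : G)⁻¹ := by
      calc (q.1 : G)⁻¹ * p.1 = (q.1 : G)⁻¹ * (p.1 * p.2) * (p.2 : G)⁻¹ := by group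
        _ = _ := by rw [e']; group
    have hb : (q.1 : G)⁻¹ * p.1 ∈ K ⊓ S.W :=
      ⟨K.mul_mem (K.inv_mem q.1.2) p.1.2, by rw [hm]; exact S.W.mul_mem q.2.2 (S.W.inv_mem p.2.2)⟩
    rw [hKW, mem_bot] at hb
    have e1 : (q.1 : G) = p.1 := inv_mul_eq_one.1 hb
    rw [e1] at e'
    exact Prod.ext (Subtype.ext e1.symm) (Subtype.ext (mul_left_cancel e'))
  have hcW : c ∈ S.W := by rw [hc, ← f1]; exact mem_W' h 1 1
  set H := centralizer ({c} : Set G) with hH
  have hcomW : ∀ r ∈ S.W, r * c = c * r := fun r hr => by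
    have := hWsq _ (mul_mem hr hcW)
    calc r * c = (r * c)⁻¹ := (inv_eq_of_mul_eq_one_right this).symm
      _ = c * r := by rw [mul_inv_rev, inv_eq_of_mul_eq_one_right (hWsq r hr),
            inv_eq_of_mul_eq_one_right (hWsq c hcW)]
  have hPH : P ≤ H := by
    refine sup_le ((closure_le _).2 ?_) fun r hr => mem_centralizer_singleton_iff.2 (hcomW r hr)
    have hσα : (swap 2 3 : P5) * α₀ * swap 2 3 = α₀ := by decide +kernel
    rintro _ (rfl | rfl) <;> rw [SetLike.mem_coe, mem_centralizer_singleton_iff]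
    · have c1 : Commute s (pa S α₀) := by
        show s * pa S α₀ = pa S α₀ * s
        rw [hs1, mul_assoc, ← map_mul, show (swap 2 3 : P5) * α₀ = α₀ * swap 2 3 by decide +kernel,
          map_mul, ← mul_assoc, ← pa_pb h sα sυ, mul_assoc]
      have c2 : Commute s (pb S α₀) := by
        show s * pb S α₀ = pb S α₀ * s
        rw [hs2, mul_assoc, ← map_mul, show (swap 2 3 : P5) * α₀ = α₀ * swap 2 3 by decide +kernel,
          map_mul, ← mul_assoc, pa_pb h sυ sα, mul_assoc]
      exact (c1.mul_right c2).eq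
    · have := g_form h sα sα 0 0
      simp only [rep, Fin.val_zero, pow_zero, mul_one] at this
      calc S.g * c = S.g * c * (S.g * S.g) := by rw [h.gg, mul_one]
        _ = c * S.g := by rw [← mul_assoc, hc, this]
  have hmax : ¬ 2 ∣ P.relIndex H := fun hd => by
    obtain ⟨m, hm⟩ := IsPGroup.iff_card.1 hP2
    have h6 : 6 ≤ m := by
      by_contra h6
      have : 2 ^ m ≤ 2 ^ 5 := Nat.pow_le_pow_right (by norm_num) (by omega)
      omega
    refine h.not128 (dvd_trans ?_ (card_subgroup_dvd_card H))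
    rw [← relIndex_mul_card' hPH, show (128 : ℕ) = 2 * 2 ^ 6 by norm_num, hm]
    exact Nat.mul_dvd_mul hd (pow_dvd_pow 2 h6)
  obtain ⟨k, hk⟩ := isConj_iff.1 hxc
  have hvk : (k * v * k⁻¹) * c = c * (k * v * k⁻¹) := by
    rw [← hk]
    calc k * v * k⁻¹ * (k * x * k⁻¹) = k * (v * x) * k⁻¹ := by group
      _ = k * (x * v) * k⁻¹ := by rw [hvx]
      _ = k * x * k⁻¹ * (k * v * k⁻¹) := by group
  have hV : IsPGroup 2 (zpowers (k * v * k⁻¹)) := by
    rintro ⟨z, hz⟩
    obtain ⟨m, rfl⟩ := mem_zpowers_iff.1 hz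
    refine ⟨1, Subtype.ext ?_⟩
    show ((k * v * k⁻¹) ^ m) ^ (2 ^ 1) = 1
    rw [pow_one, pow_two, ← (Commute.refl (k * v * k⁻¹)).mul_zpow,
      show k * v * k⁻¹ * (k * v * k⁻¹) = k * (v * v) * k⁻¹ by group, hv, mul_one, mul_inv_cancel,
      one_zpow]
  obtain ⟨k₂, hk₂, hk₂'⟩ := Transfer.exists_conj_le_of_isPGroup hP2 hPH hmax hV
    (zpowers_le.2 (mem_centralizer_singleton_iff.2 hvk))
  set m := k₂⁻¹ * k with hm
  have hmx : m * x * m⁻¹ = c := by
    rw [hm, show k₂⁻¹ * k * x * (k₂⁻¹ * k)⁻¹ = k₂⁻¹ * (k * x * k⁻¹) * k₂ by group, hk, mul_assoc,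
      ← mem_centralizer_singleton_iff.1 hk₂, inv_mul_cancel_left]
  have hmv : m * v * m⁻¹ ∈ normalizer (S.W : Set G) := by
    have := hk₂' _ (mem_zpowers _)
    rw [hm, show k₂⁻¹ * k * v * (k₂⁻¹ * k)⁻¹ = k₂⁻¹ * (k * v * k⁻¹) * k₂ by group]
    exact sup_le hKn le_normalizer this
  have hcard : Nat.card (centralizer ({c, m * v * m⁻¹} : Set G)) =
      Nat.card (centralizer ({x, v} : Set G)) := by
    refine (Nat.card_congr (Equiv.subtypeEquiv (MulAut.conj m).toEquiv fun a => ?_)).symm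
    simp only [MulEquiv.toEquiv_eq_coe, MulEquiv.coe_toEquiv, MulAut.conj_apply,
      mem_centralizer_iff, Set.mem_insert_iff, Set.mem_singleton_iff, forall_eq_or_imp,
      forall_eq, ← hmx]
    have key : ∀ b, m * b * m⁻¹ * (m * a * m⁻¹) = m * a * m⁻¹ * (m * b * m⁻¹) ↔ b * a = a * b :=
      fun b => by
      rw [show m * b * m⁻¹ * (m * a * m⁻¹) = m * (b * a) * m⁻¹ by group,
        show m * a * m⁻¹ * (m * b * m⁻¹) = m * (a * b) * m⁻¹ by group, mul_left_inj, mul_right_inj]
    rw [key, key]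
  have hres := conj_mul_of_four S.W (x := c) (v := m * v * m⁻¹) hW16 hWsq hcW
    (by rw [show m * v * m⁻¹ * (m * v * m⁻¹) = m * (v * v) * m⁻¹ by group, hv, mul_one,
      mul_inv_cancel])
    (fun r hr => by
      have h2 : (m * v * m⁻¹)⁻¹ = m * v * m⁻¹ := by
        rw [show (m * v * m⁻¹)⁻¹ = m * v⁻¹ * m⁻¹ by group, inv_eq_of_mul_eq_one_right hv]
      have := (mem_normalizer_iff.1 hmv r).1 hr
      rwa [h2] at this)
    (by
      rw [← hmx]
      calc m * v * m⁻¹ * (m * x * m⁻¹) = m * (v * x) * m⁻¹ := by group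
        _ = m * (x * v) * m⁻¹ := by rw [hvx]
        _ = m * x * m⁻¹ * (m * v * m⁻¹) := by group)
    (by rw [hcard]; exact h16)
  have e : m * v * m⁻¹ * c = m * (v * x) * m⁻¹ := by rw [← hmx]; group
  rw [e] at hres
  exact (isConj_iff.2 ⟨m, rfl⟩).trans (hres.trans (isConj_iff.2 ⟨m, rfl⟩).symm)

/-- The diagonal involution is not conjugate to `t`. -/
theorem t_not_c [Finite G] : ¬ IsConj (S.ψ tF) (pa S α₀ * pb S α₀) := by
  intro hc
  obtain ⟨sυ, -, -, -⟩ := sign_basic
  obtain ⟨-, hυ2, htυ, -, -, -, hυ1, -⟩ := five_facts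
  have h2 : pb S υ * pb S υ = 1 := by rw [← map_mul, hυ2, map_one]
  have hcomm : pb S υ * S.ψ tF = S.ψ tF * pb S υ := by
    calc pb S υ * S.ψ tF = S.ψ tF * pb S υ * S.ψ tF * S.ψ tF := by rw [t_pb, htυ]
      _ = _ := by rw [mul_assoc, t_sq, mul_one]
  have hf := c_fuse h hc h2 hcomm (card_cent_t_e h)
  have e : pb S υ * S.ψ tF = pa S 1 * pb S υ * rep S 1 0 := by simp [rep]
  refine outer_not_a h (x := pb S υ * S.ψ tF) ?_ ?_ ?_
    (hf.symm.trans (pb_conj_a h sυ hυ2 hυ1).1)
  · rw [e]; exact form_le h (by simp) sυ 1 0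
  · rw [e]; exact form_not_mem h (by simp) sυ (by decide)
  · rw [show pb S υ * S.ψ tF * (pb S υ * S.ψ tF) = pb S υ * (S.ψ tF * pb S υ) * S.ψ tF by
      simp only [mul_assoc], ← hcomm, ← mul_assoc, h2, one_mul, t_sq]

end CfsgLib.SEightThree.WrInvol
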