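import Cfsg.Agent.Lib.SEightThree.Common

/-!
Coordinates in the normalizer of the product of the two simple factors.
-/

set_option autoImplicit false
set_option linter.style.haveILetI false
set_option linter.unusedVariables false
set_option linter.unusedSectionVars false
set_option linter.unusedSimpArgs false
set_option maxRecDepth 100000
set_option synthInstance.maxSize 1024

namespace CfsgLib.SEightThree.WrInvol

open Subgroup Equiv

universe u

abbrev P5 : Type := Perm (Fin 5)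

/-- The transposition acting on both factors. -/
def τ : P5 := swap 0 1

/-- The double transposition coming from `eF`. -/
def υ : P5 := swap 2 3 * swap 0 1

/-- The three-cycle. -/
def δ : P5 := swap 2 3 * swap 3 4

/-- The double transposition of `aF`. -/
def α₀ : P5 := swap 1 4 * swap 2 3

/-- The four-group fixing the letter `0`. -/
def four : Fin 4 → P5 := ![1, swap 1 4 * swap 2 3, swap 1 3 * swap 2 4, swap 1 2 * swap 3 4]

theorem sign_basic : Perm.sign υ = 1 ∧ Perm.sign δ = 1 ∧ Perm.sign α₀ = 1 ∧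
    ∀ i, Perm.sign (four i) = 1 := by
  decide +kernel

theorem sign_tau_conj : ∀ a : P5, Perm.sign a = 1 → Perm.sign (τ * a * τ) = 1 := by
  decide +kernel

theorem five_facts : τ * τ = 1 ∧ υ * υ = 1 ∧ τ * υ * τ = υ ∧ τ * δ * τ = δ ∧
    υ * δ * υ = δ⁻¹ ∧ α₀ * α₀ = 1 ∧ υ ≠ 1 ∧ δ ≠ 1 ∧ δ ^ 3 = 1 ∧ α₀ ≠ 1 := by
  decide +kernel

theorem four_facts : four 0 = 1 ∧ four 1 = α₀ ∧ four 2 = bF.2 ∧ aF.2 = α₀ ∧
    (∀ i j, ∃ k, four i * four j = four k) ∧ (∀ i, ∃ k, (four i)⁻¹ = four k) := by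
  decide +kernel

theorem four_conj : ∀ i : Fin 4, i ≠ 0 → ∃ c : P5, Perm.sign c = 1 ∧ c * four i * c⁻¹ = α₀ := by
  decide +kernel

theorem invol_conj : ∀ a : P5, Perm.sign a = 1 → a * a = 1 → a ≠ 1 →
    ∃ c : P5, Perm.sign c = 1 ∧ c * a * c⁻¹ = α₀ := by
  decide +kernel

theorem odd_invol_conj : ∀ a : P5, Perm.sign a = 1 → a * τ * (a * τ) = 1 →
    ∃ c : P5, Perm.sign c = 1 ∧ c * τ * c⁻¹ = a * τ := by
  decide +kernel

theorem three_cases : ∀ a : P5, a ^ 3 = 1 → a * α₀ = α₀ * a → a = 1 := by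
  decide +kernel

theorem three_conj : ∀ a : P5, a ^ 3 = 1 → a ≠ 1 →
    ∃ c : P5, Perm.sign c = 1 ∧ c * a * c⁻¹ = δ := by
  decide +kernel

variable {G : Type u} [Group G] (S : Setup G)

/-- Elements of the first factor. -/
def pa : P5 →* G := S.ψ.comp (MonoidHom.inr (Perm (Fin 3)) P5)

/-- Elements of the second factor. -/
def pb : P5 →* G := S.φ.comp (MonoidHom.inr (Perm (Fin 3)) P5)

/-- Representatives of the cosets of the product of the factors. -/
def rep (i j : Fin 2) : G := S.ψ tF ^ i.val * S.g ^ j.val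

/-- The facts about the product of the factors used below. -/
structure Frame : Prop where
  isWr : S.IsWr
  comm : ∀ x ∈ S.L₁, ∀ y ∈ S.L₂, Commute x y
  inf : S.L₁ ⊓ S.L₂ = ⊥
  gg : S.g * S.g = 1
  memN : ∀ {x : G}, x ∈ S.N ↔ ∃ a ∈ S.L₁, ∃ b ∈ S.L₂, x = a * b
  memNN : ∀ {x : G}, x ∈ normalizer (S.N : Set G) ↔ ∃ n ∈ S.N,
    x = n ∨ x = n * S.ψ tF ∨ x = n * S.g ∨ x = n * (S.ψ tF * S.g)
  cardN : Nat.card S.N = 3600
  cardNN : Nat.card (normalizer (S.N : Set G)) = 14400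
  cent_y : centralizer ({S.ψ zF * S.ψ dF} : Set G) ≤ normalizer (S.N : Set G)
  cent_a : centralizer ({S.ψ aF} : Set G) ≤ normalizer (S.N : Set G)
  not128 : ¬ 128 ∣ Nat.card G
  a_c : ¬ IsConj (S.ψ aF) (S.ψ aF * S.φ aF)

theorem pa_mem {a : P5} (ha : Perm.sign a = 1) : pa S a ∈ S.L₁ :=
  ⟨(1, a), ⟨rfl, Perm.mem_alternatingGroup.2 ha⟩, rfl⟩

theorem pb_mem {a : P5} (ha : Perm.sign a = 1) : pb S a ∈ S.L₂ :=
  ⟨(1, a), ⟨rfl, Perm.mem_alternatingGroup.2 ha⟩, rfl⟩

theorem mem_L₁ {x : G} (hx : x ∈ S.L₁) : ∃ a : P5, Perm.sign a = 1 ∧ x = pa S a := by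
  obtain ⟨⟨k, a⟩, ⟨hk, ha⟩, rfl⟩ := hx
  obtain rfl : k = 1 := hk
  exact ⟨a, Perm.mem_alternatingGroup.1 ha, rfl⟩

theorem mem_L₂ {x : G} (hx : x ∈ S.L₂) : ∃ a : P5, Perm.sign a = 1 ∧ x = pb S a := by
  obtain ⟨⟨k, a⟩, ⟨hk, ha⟩, rfl⟩ := hx
  obtain rfl : k = 1 := hk
  exact ⟨a, Perm.mem_alternatingGroup.1 ha, rfl⟩

theorem pa_inj : Function.Injective (pa S) := fun a b h => congrArg Prod.snd (S.inj h)

theorem pb_inj : Function.Injective (pb S) := fun a b h => congrArg Prod.snd (S.φ_inj h)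

theorem t_sq : S.ψ tF * S.ψ tF = 1 := by
  rw [← map_mul, show tF * tF = 1 by decide +kernel, map_one]

theorem t_inv : (S.ψ tF)⁻¹ = S.ψ tF := inv_eq_of_mul_eq_one_right (t_sq S)

theorem g_t_comm : S.g * S.ψ tF = S.ψ tF * S.g := by
  have h := S.g_t
  calc S.g * S.ψ tF = S.g * S.ψ tF * S.g⁻¹ * S.g := by group
    _ = S.ψ tF * S.g := by rw [h]

theorem tF_conj (a : P5) : tF * (1, a) * tF = (1, τ * a * τ) := by
  refine Prod.ext ?_ rfl
  show (1 : Perm (Fin 3)) * 1 * 1 = 1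
  simp

theorem t_pa (a : P5) : S.ψ tF * pa S a * S.ψ tF = pa S (τ * a * τ) := by
  show S.ψ tF * S.ψ (1, a) * S.ψ tF = S.ψ (1, τ * a * τ)
  rw [← map_mul, ← map_mul, tF_conj]

theorem t_pb (a : P5) : S.ψ tF * pb S a * S.ψ tF = pb S (τ * a * τ) := by
  show S.ψ tF * S.φ (1, a) * S.ψ tF = S.φ (1, τ * a * τ)
  rw [← S.φ_tF, ← map_mul, ← map_mul, tF_conj]

variable {S} (h : Frame S)
include h

theorem gi : S.g⁻¹ = S.g := inv_eq_of_mul_eq_one_right h.gg

theorem g_pa (a : P5) : S.g * pa S a * S.g = pb S a := by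
  show S.g * S.ψ (1, a) * S.g = S.φ (1, a)
  rw [S.φ_apply, gi h]

theorem g_pb (a : P5) : S.g * pb S a * S.g = pa S a := by
  show S.g * S.φ (1, a) * S.g = S.ψ (1, a)
  rw [S.φ_apply, gi h]
  simp only [mul_assoc, h.gg, mul_one]
  rw [← mul_assoc, h.gg, one_mul]

theorem pa_pb {a b : P5} (ha : Perm.sign a = 1) (hb : Perm.sign b = 1) :
    pa S a * pb S b = pb S b * pa S a :=
  h.comm _ (pa_mem S ha) _ (pb_mem S hb)

theorem mul_forms {a b a' b' : P5} (hb : Perm.sign b = 1) (ha' : Perm.sign a' = 1) :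
    pa S a * pb S b * (pa S a' * pb S b') = pa S (a * a') * pb S (b * b') := by
  rw [map_mul, map_mul, mul_assoc, ← mul_assoc (pb S b), ← pa_pb h ha' hb]
  simp only [mul_assoc]

theorem inv_form {a b : P5} (ha : Perm.sign a = 1) (hb : Perm.sign b = 1) :
    (pa S a * pb S b)⁻¹ = pa S a⁻¹ * pb S b⁻¹ := by
  rw [pa_pb h ha hb, mul_inv_rev, map_inv, map_inv]

theorem form_mem {a b : P5} (ha : Perm.sign a = 1) (hb : Perm.sign b = 1) :
    pa S a * pb S b ∈ S.N :=
  h.memN.2 ⟨_, pa_mem S ha, _, pb_mem S hb, rfl⟩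

theorem mem_N {x : G} (hx : x ∈ S.N) :
    ∃ a b : P5, Perm.sign a = 1 ∧ Perm.sign b = 1 ∧ x = pa S a * pb S b := by
  obtain ⟨u, hu, v, hv, rfl⟩ := h.memN.1 hx
  obtain ⟨a, ha, rfl⟩ := mem_L₁ S hu
  obtain ⟨b, hb, rfl⟩ := mem_L₂ S hv
  exact ⟨a, b, ha, hb, rfl⟩

theorem form_inj {a b a' b' : P5} (ha : Perm.sign a = 1) (hb : Perm.sign b = 1)
    (ha' : Perm.sign a' = 1) (hb' : Perm.sign b' = 1)
    (e : pa S a * pb S b = pa S a' * pb S b') : a = a' ∧ b = b' := by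
  have hm : pa S (a'⁻¹ * a) = pb S (b' * b⁻¹) := by
    rw [map_mul, map_mul, map_inv, map_inv]
    calc (pa S a')⁻¹ * pa S a = (pa S a')⁻¹ * (pa S a * pb S b) * (pb S b)⁻¹ := by group
      _ = (pa S a')⁻¹ * (pa S a' * pb S b') * (pb S b)⁻¹ := by rw [e]
      _ = pb S b' * (pb S b)⁻¹ := by group
  have h1 : pa S (a'⁻¹ * a) ∈ S.L₁ ⊓ S.L₂ :=
    ⟨pa_mem S (by simp [ha, ha']), hm ▸ pb_mem S (by simp [hb, hb'])⟩
  rw [h.inf, mem_bot] at h1
  have h2 := hm.symm.trans h1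
  have e1 : a'⁻¹ * a = 1 := pa_inj S (h1.trans (map_one _).symm)
  have e2 : b' * b⁻¹ = 1 := pb_inj S (h2.trans (map_one _).symm)
  exact ⟨(inv_mul_eq_one.1 e1).symm, (mul_inv_eq_one.1 e2).symm⟩

theorem rep_mem (i j : Fin 2) : rep S i j ∈ normalizer (S.N : Set G) := by
  have h1 : S.ψ tF ∈ normalizer (S.N : Set G) :=
    h.memNN.2 ⟨1, one_mem _, Or.inr (Or.inl (one_mul _).symm)⟩
  have h2 : S.g ∈ normalizer (S.N : Set G) :=
    h.memNN.2 ⟨1, one_mem _, Or.inr (Or.inr (Or.inl (one_mul _).symm))⟩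
  exact mul_mem (pow_mem h1 _) (pow_mem h2 _)

theorem form_le {a b : P5} (ha : Perm.sign a = 1) (hb : Perm.sign b = 1) (i j : Fin 2) :
    pa S a * pb S b * rep S i j ∈ normalizer (S.N : Set G) :=
  mul_mem (Subgroup.le_normalizer (form_mem h ha hb)) (rep_mem h i j)

theorem mem_NN {x : G} (hx : x ∈ normalizer (S.N : Set G)) :
    ∃ n ∈ S.N, ∃ i j : Fin 2, x = n * rep S i j := by
  obtain ⟨n, hn, e | e | e | e⟩ := h.memNN.1 hx
  · exact ⟨n, hn, 0, 0, by simp [rep, e]⟩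
  · exact ⟨n, hn, 1, 0, by simp [rep, e]⟩
  · exact ⟨n, hn, 0, 1, by simp [rep, e]⟩
  · exact ⟨n, hn, 1, 1, by simp [rep, e]⟩

theorem mem_NN' {x : G} (hx : x ∈ normalizer (S.N : Set G)) :
    ∃ a b : P5, ∃ i j : Fin 2, Perm.sign a = 1 ∧ Perm.sign b = 1 ∧
      x = pa S a * pb S b * rep S i j := by
  obtain ⟨n, hn, i, j, rfl⟩ := mem_NN h hx
  obtain ⟨a, b, ha, hb, rfl⟩ := mem_N h hn
  exact ⟨a, b, i, j, ha, hb, rfl⟩

theorem coset_inj [Finite G] {n m : G} (hn : n ∈ S.N) (hm : m ∈ S.N) {i j i' j' : Fin 2}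
    (e : n * rep S i j = m * rep S i' j') : n = m ∧ i = i' ∧ j = j' := by
  let f : S.N × (Fin 2 × Fin 2) → normalizer (S.N : Set G) := fun p =>
    ⟨p.1 * rep S p.2.1 p.2.2, mul_mem (Subgroup.le_normalizer p.1.2) (rep_mem h _ _)⟩
  have hf : Function.Surjective f := fun x => by
    obtain ⟨n, hn, i, j, he⟩ := mem_NN h x.2
    exact ⟨(⟨n, hn⟩, i, j), Subtype.ext he.symm⟩
  have hc : Nat.card (S.N × (Fin 2 × Fin 2)) = Nat.card (normalizer (S.N : Set G)) := by
    rw [Nat.card_prod, Nat.card_prod, h.cardN, h.cardNN]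
    simp
  have hb := (Nat.bijective_iff_surjective_and_card f).2 ⟨hf, hc⟩
  have := hb.1 (a₁ := (⟨n, hn⟩, i, j)) (a₂ := (⟨m, hm⟩, i', j')) (Subtype.ext e)
  simpa [Prod.ext_iff] using this

theorem uniq [Finite G] {a b a' b' : P5} {i j i' j' : Fin 2}
    (ha : Perm.sign a = 1) (hb : Perm.sign b = 1) (ha' : Perm.sign a' = 1)
    (hb' : Perm.sign b' = 1)
    (e : pa S a * pb S b * rep S i j = pa S a' * pb S b' * rep S i' j') :
    a = a' ∧ b = b' ∧ i = i' ∧ j = j' := by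
  obtain ⟨e1, e2, e3⟩ := coset_inj h (form_mem h ha hb) (form_mem h ha' hb') e
  obtain ⟨e4, e5⟩ := form_inj h ha hb ha' hb' e1
  exact ⟨e4, e5, e2, e3⟩

theorem t_form (a b : P5) (i j : Fin 2) :
    S.ψ tF * (pa S a * pb S b * rep S i j) * S.ψ tF =
      pa S (τ * a * τ) * pb S (τ * b * τ) * rep S i j := by
  rw [← t_pa, ← t_pb]
  have hc : Commute (S.ψ tF) (rep S i j) :=
    ((Commute.refl _).pow_right _).mul_right
      ((show Commute (S.ψ tF) S.g from (g_t_comm S).symm).pow_right _)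
  simp only [mul_assoc, ← hc.eq]
  rw [← mul_assoc (S.ψ tF) (S.ψ tF), t_sq, one_mul]

theorem g_form {a b : P5} (ha : Perm.sign a = 1) (hb : Perm.sign b = 1) (i j : Fin 2) :
    S.g * (pa S a * pb S b * rep S i j) * S.g = pa S b * pb S a * rep S i j := by
  have hc : Commute S.g (rep S i j) :=
    ((show Commute S.g (S.ψ tF) from g_t_comm S).pow_right _).mul_right
      ((Commute.refl _).pow_right _)
  rw [pa_pb h hb ha, ← g_pa h a, ← g_pb h b]
  simp only [mul_assoc, ← hc.eq]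
  rw [← mul_assoc S.g S.g, h.gg, one_mul]

theorem e_eq : S.ψ eF = pb S υ := by
  have hf : S.φ fF = S.ψ (eF * tF) := by
    rw [S.φ_apply]; exact h.isWr.2
  show S.ψ eF = S.φ (1, υ)
  rw [show ((1, υ) : KF) = fF * tF by decide +kernel, map_mul, hf, S.φ_tF, map_mul, mul_assoc,
    t_sq, mul_one]

omit h in
theorem a_eq : S.ψ aF = pa S α₀ := rfl

omit h in
theorem phi_a_eq : S.φ aF = pb S α₀ := rfl

omit h in
theorem d_eq : S.ψ dF = pa S δ := rfl

omit h in
theorem z_eq : S.ψ zF = pb S δ := S.φ_dF.symm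

theorem mem_W {x : G} (hx : x ∈ S.W) : ∃ i j : Fin 4, x = pa S (four i) * pb S (four j) := by
  obtain ⟨f0, f1, f2, fa, fmul, finv⟩ := four_facts
  obtain ⟨-, -, -, fs⟩ := sign_basic
  have key : S.W ≤ (⊤ : Subgroup G) ∧ ∀ y ∈ S.W, ∃ i j : Fin 4,
      y = pa S (four i) * pb S (four j) := by
    refine ⟨le_top, fun y hy => ?_⟩
    rw [Setup.W, Setup.V, Setup.V', ← Subgroup.closure_union] at hy
    induction hy using closure_induction with
    | mem z hz =>
      rcases hz with (rfl | rfl) | (rfl | rfl)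
      · exact ⟨1, 0, by rw [f0, f1, map_one, mul_one]; rfl⟩
      · exact ⟨2, 0, by rw [f0, f2, map_one, mul_one]; rfl⟩
      · exact ⟨0, 1, by rw [f0, f1, map_one, one_mul]; rfl⟩
      · exact ⟨0, 2, by rw [f0, f2, map_one, one_mul]; rfl⟩
    | one => exact ⟨0, 0, by rw [f0, map_one, map_one, one_mul]⟩
    | mul u v _ _ hu hv =>
      obtain ⟨i, j, rfl⟩ := hu
      obtain ⟨i', j', rfl⟩ := hv
      obtain ⟨k, hk⟩ := fmul i i'
      obtain ⟨l, hl⟩ := fmul j j'
      exact ⟨k, l, by rw [mul_forms h (fs j) (fs i'), hk, hl]⟩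
    | inv u _ hu =>
      obtain ⟨i, j, rfl⟩ := hu
      obtain ⟨k, hk⟩ := finv i
      obtain ⟨l, hl⟩ := finv j
      exact ⟨k, l, by rw [inv_form h (fs i) (fs j), hk, hl]⟩
  exact key.2 x hx

omit h in
theorem isConj_pa {a b c : P5} (e : c * a * c⁻¹ = b) : IsConj (pa S a) (pa S b) :=
  isConj_iff.2 ⟨pa S c, by rw [← e, map_mul, map_mul, map_inv]⟩

omit h in
theorem isConj_pb {a b c : P5} (e : c * a * c⁻¹ = b) : IsConj (pb S a) (pb S b) :=
  isConj_iff.2 ⟨pb S c, by rw [← e, map_mul, map_mul, map_inv]⟩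

theorem isConj_swap (a : P5) : IsConj (pb S a) (pa S a) :=
  isConj_iff.2 ⟨S.g, by rw [gi h, g_pb h]⟩

theorem isConj_pair {a b c d : P5} (ha : Perm.sign a = 1) (hb : Perm.sign b = 1)
    (hc : Perm.sign c = 1) (hd : Perm.sign d = 1) :
    IsConj (pa S a * pb S b) (pa S (c * a * c⁻¹) * pb S (d * b * d⁻¹)) := by
  refine isConj_iff.2 ⟨pa S c * pb S d, ?_⟩
  rw [mul_forms h hd ha, inv_form h hc hd, mul_forms h (by simp [hd, hb]) (by simp [hc])]

/-- An element of `W` is conjugate to an involution of a factor or to a diagonal one. -/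
theorem W_cases {w : G} (hw : w ∈ S.W) (hw1 : w ≠ 1) :
    IsConj w (pa S α₀) ∨ IsConj w (pa S α₀ * pb S α₀) := by
  obtain ⟨i, j, rfl⟩ := mem_W h hw
  obtain ⟨f0, -⟩ := four_facts
  obtain ⟨-, -, -, fs⟩ := sign_basic
  by_cases hi : i = 0
  · subst hi
    have hj : j ≠ 0 := fun e => hw1 (by rw [e, f0, map_one, map_one, one_mul])
    obtain ⟨c, -, hc'⟩ := four_conj j hj
    rw [f0, map_one, one_mul]
    exact Or.inl ((isConj_pb hc').trans (isConj_swap h _))
  obtain ⟨c, hc, hc'⟩ := four_conj i hi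
  by_cases hj : j = 0
  · subst hj
    rw [f0, map_one, mul_one]
    exact Or.inl (isConj_pa hc')
  obtain ⟨d, hd, hd'⟩ := four_conj j hj
  have := isConj_pair h (fs i) (fs j) hc hd
  rw [hc', hd'] at this
  exact Or.inr this

/-- Outer involutions are conjugate to the representatives. -/
theorem outer_conj [Finite G] {a b : P5} {i j : Fin 2} (ha : Perm.sign a = 1)
    (hb : Perm.sign b = 1) (hij : ¬ (i = 0 ∧ j = 0))
    (hx : pa S a * pb S b * rep S i j * (pa S a * pb S b * rep S i j) = 1) :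
    IsConj (rep S i j) (pa S a * pb S b * rep S i j) := by
  fin_cases i <;> fin_cases j
  · exact absurd ⟨rfl, rfl⟩ hij
  · -- the coset of `g`
    have hg : rep S 0 1 = S.g := by simp [rep]
    simp only [Fin.zero_eta, Fin.mk_one] at hx ⊢
    rw [hg] at hx ⊢
    have e1 : pa S a * pb S b * S.g * (pa S a * pb S b * S.g) =
        pa S (a * b) * pb S (b * a) := by
      have := g_form h ha hb 0 0
      simp only [rep, Fin.val_zero, pow_zero, mul_one] at this
      rw [mul_assoc, ← mul_assoc S.g, this, mul_forms h hb hb]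
    rw [e1] at hx
    obtain ⟨e2, -⟩ := form_inj h (a := a * b) (b := b * a) (a' := 1) (b' := 1) (by simp [ha, hb]) (by simp [ha, hb])
      (by simp) (by simp) (by rw [hx, map_one, map_one, one_mul])
    have hb' : b = a⁻¹ := (inv_eq_of_mul_eq_one_right e2).symm
    refine isConj_iff.2 ⟨pa S a, ?_⟩
    rw [hb', map_inv, ← g_pa h a, mul_inv_rev, mul_inv_rev, gi h]
    simp only [mul_assoc, h.gg, mul_one]
  · -- the coset of `t`
    have ht : rep S 1 0 = S.ψ tF := by simp [rep]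
    simp only [Fin.zero_eta, Fin.mk_one] at hx ⊢
    rw [ht] at hx ⊢
    have e1 : pa S a * pb S b * S.ψ tF * (pa S a * pb S b * S.ψ tF) =
        pa S (a * (τ * a * τ)) * pb S (b * (τ * b * τ)) := by
      have := t_form h a b 0 0
      simp only [rep, Fin.val_zero, pow_zero, mul_one] at this
      rw [mul_assoc, ← mul_assoc (S.ψ tF), this, mul_forms h hb (sign_tau_conj a ha)]
    rw [e1] at hx
    obtain ⟨e2, e3⟩ := form_inj h (a := a * (τ * a * τ)) (b := b * (τ * b * τ)) (a' := 1) (b' := 1) (by simp [ha, sign_tau_conj a ha])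
      (by simp [hb, sign_tau_conj b hb])
      (by simp) (by simp) (by rw [hx, map_one, map_one, one_mul])
    obtain ⟨c, hc, hc'⟩ := odd_invol_conj a ha (by rw [← e2]; simp only [mul_assoc])
    obtain ⟨d, hd, hd'⟩ := odd_invol_conj b hb (by rw [← e3]; simp only [mul_assoc])
    have ea : c * (τ * c⁻¹ * τ) = a := by
      calc c * (τ * c⁻¹ * τ) = c * τ * c⁻¹ * τ := by simp only [mul_assoc]
        _ = a := by rw [hc', mul_assoc, five_facts.1, mul_one]
    have eb : d * (τ * d⁻¹ * τ) = b := by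
      calc d * (τ * d⁻¹ * τ) = d * τ * d⁻¹ * τ := by simp only [mul_assoc]
        _ = b := by rw [hd', mul_assoc, five_facts.1, mul_one]
    refine isConj_iff.2 ⟨pa S c * pb S d, ?_⟩
    have := t_form h c⁻¹ d⁻¹ 0 0
    simp only [rep, Fin.val_zero, pow_zero, mul_one] at this
    calc pa S c * pb S d * S.ψ tF * (pa S c * pb S d)⁻¹
        = pa S c * pb S d * (S.ψ tF * (pa S c⁻¹ * pb S d⁻¹) * S.ψ tF) * S.ψ tF := by
          rw [inv_form h hc hd]
          simp only [mul_assoc, t_sq, mul_one]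
      _ = pa S a * pb S b * S.ψ tF := by
          rw [this, mul_forms h hd (sign_tau_conj _ (by simp [hc])), ea, eb]
  · -- the coset of `t * g`
    have htg : rep S 1 1 = S.ψ tF * S.g := by simp [rep]
    simp only [Fin.zero_eta, Fin.mk_one] at hx ⊢
    rw [htg] at hx ⊢
    have htg2 : S.ψ tF * S.g * (S.ψ tF * S.g) = 1 := by
      rw [mul_assoc, ← mul_assoc S.g, g_t_comm, mul_assoc, h.gg, mul_one, t_sq]
    have hconj : ∀ {c d : P5}, Perm.sign c = 1 → Perm.sign d = 1 →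
        S.ψ tF * S.g * (pa S c * pb S d) * (S.ψ tF * S.g) =
          pa S (τ * d * τ) * pb S (τ * c * τ) := fun {c d} hc hd => by
      have h1 := g_form h hc hd 0 0
      have h2 := t_form h d c 0 0
      simp only [rep, Fin.val_zero, pow_zero, mul_one] at h1 h2
      rw [← h2, ← h1]
      nth_rewrite 2 [← g_t_comm]
      simp only [mul_assoc]
    have e1 : pa S a * pb S b * (S.ψ tF * S.g) * (pa S a * pb S b * (S.ψ tF * S.g)) =
        pa S (a * (τ * b * τ)) * pb S (b * (τ * a * τ)) := by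
      calc pa S a * pb S b * (S.ψ tF * S.g) * (pa S a * pb S b * (S.ψ tF * S.g))
          = pa S a * pb S b * (S.ψ tF * S.g * (pa S a * pb S b) * (S.ψ tF * S.g)) := by
            simp only [mul_assoc]
        _ = _ := by rw [hconj ha hb, mul_forms h hb (sign_tau_conj b hb)]
    rw [e1] at hx
    obtain ⟨e2, -⟩ := form_inj h (a := a * (τ * b * τ)) (b := b * (τ * a * τ)) (a' := 1) (b' := 1) (by simp [ha, sign_tau_conj b hb])
      (by simp [hb, sign_tau_conj a ha])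
      (by simp) (by simp) (by rw [hx, map_one, map_one, one_mul])
    have hb' : b = τ * a⁻¹ * τ := by
      have : τ * b * τ = a⁻¹ := (inv_eq_of_mul_eq_one_right e2).symm
      rw [← this]
      simp only [← mul_assoc, five_facts.1, one_mul]
      rw [mul_assoc, five_facts.1, mul_one]
    refine isConj_iff.2 ⟨pa S a, ?_⟩
    have e3 := hconj (c := a⁻¹) (d := 1) (by simp [ha]) (by simp)
    simp only [map_one, mul_one, five_facts.1, one_mul] at e3
    calc pa S a * (S.ψ tF * S.g) * (pa S a)⁻¹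
        = pa S a * (S.ψ tF * S.g * pa S a⁻¹ * (S.ψ tF * S.g)) * (S.ψ tF * S.g) := by
          rw [map_inv]
          simp only [mul_assoc] at htg2 ⊢
          rw [htg2, mul_one]
      _ = _ := by rw [e3, hb']

theorem outer_cases [Finite G] {x : G} (hx : x ∈ normalizer (S.N : Set G)) (hxN : x ∉ S.N)
    (hx2 : x * x = 1) :
    IsConj (S.ψ tF) x ∨ IsConj S.g x ∨ IsConj (S.ψ tF * S.g) x := by
  obtain ⟨a, b, i, j, ha, hb, rfl⟩ := mem_NN' h hx
  have hij : ¬ (i = 0 ∧ j = 0) := by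
    rintro ⟨rfl, rfl⟩
    refine hxN ?_
    simpa [rep] using form_mem h ha hb
  have hc := outer_conj h ha hb hij hx2
  fin_cases i <;> fin_cases j
  · exact absurd ⟨rfl, rfl⟩ hij
  · exact Or.inr (Or.inl (by simpa [rep] using hc))
  · exact Or.inl (by simpa [rep] using hc)
  · exact Or.inr (Or.inr (by simpa [rep] using hc))

end CfsgLib.SEightThree.WrInvol
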