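import Cfsg.Agent.Lib.SEightThree.WrFactors
import Cfsg.Agent.Lib.SEightThree.WrInvol.CentT

/-!
The frame of the outer involutions from the facts on the factors.
-/

set_option autoImplicit false

namespace CfsgLib.SEightThree.Setup
open Subgroup
universe u
variable {G : Type u} [Group G] (S : Setup G)

theorem frameOf [Finite G] (hX : S.IsWr) (hcomm : ∀ x ∈ S.L₁, ∀ y ∈ S.L₂, Commute x y)
    (ha : centralizer ({S.ψ aF} : Set G) ≤ normalizer (S.N : Set G))
    (h128 : ¬ 128 ∣ Nat.card G) (hac : ¬ IsConj (S.ψ aF) (S.ψ aF * S.φ aF)) :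
    WrInvol.Frame S :=
  { isWr := hX, comm := hcomm, inf := S.L₁_inf_L₂ hX hcomm, gg := S.g_mul_g hX
    memN := S.mem_N_iff hX hcomm, memNN := S.mem_normalizer_N hX hcomm
    cardN := S.card_N hX hcomm, cardNN := S.card_normalizer_N hX hcomm
    cent_y := S.cent_y_le_normalizer hX hcomm, cent_a := ha, not128 := h128, a_c := hac }
end CfsgLib.SEightThree.Setup
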